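import Groth.Agent.H61.Hull.OfExt
import Groth.Agent.H61.DefAlg.FlatColon

set_option linter.style.haveILetI false
set_option linter.unusedSectionVars false
set_option autoImplicit false

/-!
# First-order deformations (over `k[ε]`, general `Λ`) are extensions of `B₀` by `B₀`
-/

open AlgebraicGeometry CategoryTheory CategoryTheory.Limits

namespace Groth.Agent.H61.Hull

universe u

open ArtFun ArtFun.Art Groth.Agent.H61.DefAlg Groth.Agent.H61.Obs Groth.Agent.H63
  Groth.Agent.H29.ExalL

variable {Λ : Type u} {k : Type u} [CommRing Λ] [Field k] [Algebra Λ k]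
  {B₀ : Type u} [CommRing B₀] [Algebra k B₀]

variable (Λ k) in
/-- `ε` as an element of the object `dual Λ k`. -/
def epsD : (dual Λ k : Art Λ k) := (DualNumber.eps : DualNumber k)

lemma maximalIdeal_dual : IsLocalRing.maximalIdeal (dual Λ k : Art Λ k) = Ideal.span {epsD Λ k} :=
  DualNumber.maximalIdeal_eq_span_singleton_eps (K := k)

lemma epsD_mul_self : epsD Λ k * epsD Λ k = 0 := DualNumber.eps_mul_eps (R := k)

lemma epsD_ne_zero : epsD Λ k ≠ 0 := by
  intro h
  have := congrArg TrivSqZeroExt.snd h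
  change (1 : k) = 0 at this
  exact one_ne_zero this

lemma res_epsD : (dual Λ k : Art Λ k).res (epsD Λ k) = 0 := rfl

variable (Λ k) in
/-- the inclusion `k → k[ε]` as a ring map into the object `dual Λ k`. -/
def inlD : k →+* (dual Λ k : Art Λ k) := (TrivSqZeroExt.inlHom k k : k →+* TrivSqZeroExt k k)

lemma res_inlD (c : k) : (dual Λ k : Art Λ k).res (inlD Λ k c) = c := rfl

lemma plain_dual_eq (a : TrivSqZeroExt k k) :
    a = TrivSqZeroExt.inl a.fst + TrivSqZeroExt.inl a.snd * (TrivSqZeroExt.inr 1 : TrivSqZeroExt k k) := by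
  rw [TrivSqZeroExt.inl_mul_inr, smul_eq_mul, mul_one, TrivSqZeroExt.inl_fst_add_inr_snd_eq]

lemma dual_eq (a : (dual Λ k : Art Λ k)) :
    a = inlD Λ k (TrivSqZeroExt.fst (a : TrivSqZeroExt k k)) +
      inlD Λ k (TrivSqZeroExt.snd (a : TrivSqZeroExt k k)) * epsD Λ k :=
  plain_dual_eq a

lemma hj₁ (k B₀ : Type u) [Field k] [CommRing B₀] [Algebra k B₀] (i : Unit) :
    Algebra.linearMap k B₀ (Module.Basis.singleton Unit k i) = Module.Basis.singleton Unit B₀ i := by
  rw [Module.Basis.singleton_apply, Module.Basis.singleton_apply, Algebra.linearMap_apply, map_one]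

/-- the first-order deformation attached to an extension of `B₀` by `B₀`. -/
noncomputable def adOfExt₁ (X : Exal.Ext k B₀ B₀) : AD B₀ (dual Λ k) :=
  adOfExt (Λ := Λ) (Algebra.linearMap k B₀) X (Module.Basis.singleton Unit k)
    (Module.Basis.singleton Unit B₀) (hj₁ k B₀)

variable (D : AD B₀ (dual Λ k))

/-- the image of `ε`. -/
noncomputable def epsE : D.E := D.φ (epsD Λ k)

lemma epsE_mul_self : epsE D * epsE D = 0 := by
  unfold epsE
  rw [← map_mul, epsD_mul_self, map_zero]

lemma π_epsE : D.π (epsE D) = 0 := by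
  unfold epsE
  rw [D.comp, res_epsD, map_zero]

lemma π_eq_zero_iff (z : D.E) : D.π z = 0 ↔ ∃ y, z = epsE D * y := by
  have h1 : D.π z = 0 ↔ z ∈ RingHom.ker D.π := Iff.rfl
  rw [h1, D.ker, maximalIdeal_dual, Ideal.map_span, Set.image_singleton,
    Ideal.mem_span_singleton']
  constructor
  · rintro ⟨y, rfl⟩; exact ⟨y, mul_comm _ _⟩
  · rintro ⟨y, rfl⟩; exact ⟨y, mul_comm _ _⟩

/-- flatness: `ε y = 0` forces `y` into the kernel of the augmentation. -/
lemma π_eq_zero_of_epsE_mul (y : D.E) (h : epsE D * y = 0) : D.π y = 0 := by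
  letI : Algebra (dual Λ k : Art Λ k) D.E := D.φ.toAlgebra
  haveI : Module.Flat (dual Λ k : Art Λ k) D.E := D.flat
  have h1 : epsD Λ k • y ∈ (⊥ : Ideal (dual Λ k : Art Λ k)) •
      (⊤ : Submodule (dual Λ k : Art Λ k) D.E) := by
    rw [Submodule.bot_smul, Submodule.mem_bot, Algebra.smul_def]
    exact h
  have h2 := mem_colon_smul_top_of_flat ⊥ (epsD Λ k) y h1
  have h3 : colon (⊥ : Ideal (dual Λ k : Art Λ k)) (epsD Λ k) ≤
      IsLocalRing.maximalIdeal (dual Λ k : Art Λ k) := by
    apply IsLocalRing.le_maximalIdeal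
    intro htop
    have : (1 : (dual Λ k : Art Λ k)) ∈ colon ⊥ (epsD Λ k) := by rw [htop]; trivial
    rw [mem_colon, mul_one, Ideal.mem_bot] at this
    exact epsD_ne_zero this
  have h4 := Submodule.smul_mono_left h3 h2
  rw [Ideal.smul_top_eq_map, Submodule.restrictScalars_mem] at h4
  have h5 : y ∈ RingHom.ker D.π := by rw [D.ker]; exact h4
  exact h5

/-- the inclusion `B₀ → E`, `b ↦ ε · (lift of b)`. -/
noncomputable def inclFun (b : B₀) : D.E := epsE D * Function.surjInv D.surj b

lemma inclFun_π (y : D.E) : inclFun D (D.π y) = epsE D * y := by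
  unfold inclFun
  have h1 : D.π (Function.surjInv D.surj (D.π y) - y) = 0 := by
    rw [map_sub, Function.surjInv_eq D.surj, sub_self]
  obtain ⟨w, hw⟩ := (π_eq_zero_iff D _).mp h1
  have h2 : epsE D * (Function.surjInv D.surj (D.π y) - y) = 0 := by
    rw [hw, ← mul_assoc, epsE_mul_self, zero_mul]
  rw [mul_sub, sub_eq_zero] at h2
  exact h2

/-- the inclusion as an additive map. -/
noncomputable def inclE : B₀ →+ D.E where
  toFun := inclFun D
  map_zero' := by rw [← map_zero D.π, inclFun_π, mul_zero]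
  map_add' a b := by
    obtain ⟨ya, rfl⟩ := D.surj a
    obtain ⟨yb, rfl⟩ := D.surj b
    rw [← map_add, inclFun_π, inclFun_π, inclFun_π, mul_add]

lemma inclE_π (y : D.E) : inclE D (D.π y) = epsE D * y := inclFun_π D y

/-- the `k`-algebra structure on `E`. -/
noncomputable def algE : Algebra k D.E := (D.φ.comp (inlD Λ k)).toAlgebra

attribute [local instance] algE

lemma algebraMap_E (c : k) : algebraMap k D.E c = D.φ (inlD Λ k c) := rfl

/-- the augmentation as a `k`-algebra map. -/
noncomputable def projE : D.E →ₐ[k] B₀ :=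
  { D.π with
    commutes' := fun c => by
      change D.π (D.φ (inlD Λ k c)) = _
      rw [D.comp, res_inlD] }

lemma projE_apply (e : D.E) : projE D e = D.π e := rfl

/-- the extension of `B₀` by `B₀` attached to a first-order deformation. -/
noncomputable def extOfAD : Exal.Ext k B₀ B₀ where
  E := D.E
  proj := projE D
  incl := inclE D
  isExtension :=
    { proj_surjective := D.surj
      incl_injective := by
        rw [injective_iff_map_eq_zero]
        intro b hb
        obtain ⟨y, rfl⟩ := D.surj b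
        rw [inclE_π] at hb
        exact π_eq_zero_of_epsE_mul D y hb
      exact := fun z => by
        constructor
        · intro hz
          obtain ⟨y, rfl⟩ := (π_eq_zero_iff D z).mp hz
          exact ⟨D.π y, inclE_π D y⟩
        · rintro ⟨b, rfl⟩
          obtain ⟨y, rfl⟩ := D.surj b
          rw [inclE_π]
          change D.π (epsE D * y) = 0
          rw [map_mul, π_epsE, zero_mul]
      mul_incl := fun z b => by
        obtain ⟨y, rfl⟩ := D.surj b
        rw [inclE_π, smul_eq_mul]
        change z * (epsE D * y) = inclE D (D.π z * D.π y)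
        rw [← map_mul, inclE_π]
        ring }

lemma extOfAD_incl_one : (extOfAD D).incl 1 = epsE D := by
  change inclE D 1 = _
  rw [← map_one D.π, inclE_π, mul_one]

/-- **Every first-order deformation comes from an extension.** -/
theorem cls_adOfExt_extOfAD : (adOfExt₁ (Λ := Λ) (extOfAD D)).cls = D.cls := by
  have := AD.map_cls_eq_of_hom (𝟙 (dual Λ k)) D (adOfExt₁ (Λ := Λ) (extOfAD D)) (RingHom.id D.E) ?_ ?_
  · rw [← this, CategoryTheory.Functor.map_id]
    rfl
  · intro a
    change D.φ a = extφ (Λ := Λ) (Algebra.linearMap k B₀) (extOfAD D) a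
    rw [extφ_apply]
    conv_lhs => rw [dual_eq a, map_add, map_mul]
    congr 1
    change _ = inclE D (algebraMap k B₀ (TrivSqZeroExt.snd (a : TrivSqZeroExt k k)))
    have h1 : algebraMap k B₀ (TrivSqZeroExt.snd (a : TrivSqZeroExt k k)) =
        D.π (D.φ (inlD Λ k (TrivSqZeroExt.snd (a : TrivSqZeroExt k k)))) := by
      rw [D.comp, res_inlD]
    rw [h1, inclE_π, mul_comm]
    rfl
  · intro e
    rfl

end Groth.Agent.H61.Hull
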