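import Groth.Agent.H61.Obs.SchLift

set_option linter.style.haveILetI false
set_option linter.unusedSectionVars false
set_option autoImplicit false

/-!
# Ring-level deformation data of `Spec B₀` over an object of `Art Λ k`, and the dictionary with
the deformation functor.
-/

open AlgebraicGeometry CategoryTheory CategoryTheory.Limits Opposite TopologicalSpace

namespace Groth.Agent.H61.Hull

universe u

open ArtFun ArtFun.Art Groth.Agent.H61.AffThick Groth.Agent.H61.DefAlg Groth.Agent.H61.AffLift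
  Groth.Agent.H61.Obs

variable {Λ : Type u} {k : Type u} [CommRing Λ] [Field k] [Algebra Λ k]
  {B₀ : Type u} [CommRing B₀] [Algebra k B₀] {C' C : Art Λ k}

/-- base change of a deformation built from ring data is computed by any compatible ring map. -/
theorem baseChange_build_iso (p : C' ⟶ C) (𝒳 : DefSch (XB k B₀) (xB k B₀) C)
    {E : Type u} [CommRing E] (φ' : C' →+* E) (π' : E →+* B₀) (hφ : φ'.Flat)
    (hπ : Function.Surjective π')
    (hcomp : ∀ c, π' (φ' c) = algebraMap k B₀ (C'.res c))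
    (hker : RingHom.ker π' = (IsLocalRing.maximalIdeal C').map φ')
    (q : E →+* GR 𝒳)
    (hqφ : ∀ c, q (φ' c) = algebraMap C (GR 𝒳) (p.toAlgHom c))
    (hqπ : ∀ e, πL 𝒳 (q e) = π' e) :
    Nonempty (((build φ' π' hφ hπ hcomp hker).baseChange p).Iso 𝒳) := by
  let 𝒳' : DefSch (XB k B₀) (xB k B₀) C' := build φ' π' hφ hπ hcomp hker
  let projC : CommRingCat.of E ⟶ Γ(𝒳.total, ⊤) := CommRingCat.ofHom q
  let j₀ : 𝒳.total ⟶ 𝒳'.total := 𝒳.total.toSpecΓ ≫ Spec.map projC
  have cond : j₀ ≫ 𝒳'.f = 𝒳.f ≫ specMap p := by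
    have h1 : CommRingCat.ofHom φ' ≫ projC =
        CommRingCat.ofHom p.toAlgHom.toRingHom ≫ (Scheme.ΓSpecIso (CommRingCat.of C)).inv ≫
          𝒳.f.appTop := by
      ext c
      exact hqφ c
    change (𝒳.total.toSpecΓ ≫ Spec.map projC) ≫ Spec.map (CommRingCat.ofHom φ') =
      𝒳.f ≫ Spec.map (CommRingCat.ofHom p.toAlgHom.toRingHom)
    conv_rhs => rw [eq_toSpecΓ_SpecMap 𝒳.f]
    rw [Category.assoc, Category.assoc, ← Spec.map_comp, ← Spec.map_comp, h1]
  let u : 𝒳.total ⟶ pullback 𝒳'.f (specMap p) := pullback.lift j₀ 𝒳.f cond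
  have hu_fst : u ≫ pullback.fst 𝒳'.f (specMap p) = j₀ := pullback.lift_fst _ _ _
  have hu_f : u ≫ (𝒳'.baseChange p).f = 𝒳.f := pullback.lift_snd _ _ _
  have hij : 𝒳.i ≫ j₀ = 𝒳'.i := by
    have h1 : projC ≫ 𝒳.i.appTop ≫ (Scheme.ΓSpecIso (CommRingCat.of B₀)).hom =
        CommRingCat.ofHom π' := by
      ext e
      exact hqπ e
    change 𝒳.i ≫ 𝒳.total.toSpecΓ ≫ Spec.map projC = Spec.map (CommRingCat.ofHom π')
    rw [Scheme.toSpecΓ_naturality_assoc, ← h1, Spec.map_comp, Spec.map_comp, toSpecΓ_Spec,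
      ← Spec.map_comp, ← Spec.map_comp, ← Spec.map_comp, ← Spec.map_comp]
    congr 1
  have hu_i : 𝒳.i ≫ u = (𝒳'.baseChange p).i := by
    apply pullback.hom_ext
    · rw [Category.assoc, hu_fst, hij]
      exact (DefSch.baseChange_i_fst 𝒳' p).symm
    · have h1 : (𝒳.i ≫ u) ≫ pullback.snd 𝒳'.f (specMap p) = 𝒳.i ≫ 𝒳.f := by
        rw [Category.assoc]
        congr 1
      rw [h1, DefSch.i_f]
      exact (DefSch.baseChange_i_f 𝒳' p).symm
  haveI : IsIso u := DefSch.isIso_of_hom (ξ := 𝒳) (ξ' := 𝒳'.baseChange p) u hu_f hu_i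
  let α₀ : 𝒳.Iso (𝒳'.baseChange p) := ⟨asIso u, hu_f, hu_i⟩
  exact ⟨α₀.symm⟩

variable (B₀) in
/-- ring-level deformation data of `B₀` over `A`. -/
structure AD (A : Art Λ k) : Type (u + 1) where
  /-- the ring -/
  E : Type u
  [ring : CommRing E]
  /-- the structure map -/
  φ : A →+* E
  /-- the augmentation -/
  π : E →+* B₀
  flat : φ.Flat
  surj : Function.Surjective π
  comp : ∀ a, π (φ a) = algebraMap k B₀ (A.res a)
  ker : RingHom.ker π = (IsLocalRing.maximalIdeal A).map φ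

namespace AD

variable {A B : Art Λ k}

instance (D : AD B₀ A) : CommRing D.E := D.ring

/-- the scheme-level deformation of ring-level data. -/
noncomputable def toSch (D : AD B₀ A) : DefSch (XB k B₀) (xB k B₀) A :=
  build D.φ D.π D.flat D.surj D.comp D.ker

/-- its class in the deformation functor. -/
noncomputable def cls (D : AD B₀ A) : (defFunctor (Λ := Λ) (XB k B₀) (xB k B₀)).obj A :=
  D.toSch.cl

/-- the ring-level data of a deformation. -/
noncomputable def ofSch (ξ : DefSch (XB k B₀) (xB k B₀) A) : AD B₀ A where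
  E := GR ξ
  φ := algebraMap A (GR ξ)
  π := πL ξ
  flat := (RingHom.flat_algebraMap_iff).mpr inferInstance
  surj := πL_surjective ξ
  comp := πL_algebraMap ξ
  ker := ker_πL ξ

theorem cls_ofSch (ξ : DefSch (XB k B₀) (xB k B₀) A) : (ofSch ξ).cls = ξ.cl := by
  obtain ⟨e⟩ := baseChange_build_iso (𝟙 A) ξ (ofSch ξ).φ (ofSch ξ).π (ofSch ξ).flat (ofSch ξ).surj
    (ofSch ξ).comp (ofSch ξ).ker (RingHom.id _) (fun _ => rfl) (fun _ => rfl)
  have h1 : (defFunctor (Λ := Λ) (XB k B₀) (xB k B₀)).map (𝟙 A) (ofSch ξ).cls = ξ.cl :=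
    Quotient.sound ⟨e⟩
  rw [← h1, CategoryTheory.Functor.map_id]
  rfl

theorem exists_cls_eq (x : (defFunctor (Λ := Λ) (XB k B₀) (xB k B₀)).obj A) :
    ∃ D : AD B₀ A, D.cls = x := by
  induction x using Quotient.inductionOn with
  | h ξ => exact ⟨ofSch ξ, cls_ofSch ξ⟩

lemma algebraMap_GR_toSch (D : AD B₀ A) (a : A) :
    algebraMap A (GR D.toSch) a = (Scheme.ΓSpecIso (CommRingCat.of D.E)).inv.hom (D.φ a) := by
  have h := ConcreteCategory.congr_hom
    (Scheme.ΓSpecIso_inv_naturality (CommRingCat.ofHom D.φ)) a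
  simp only [CommRingCat.comp_apply] at h
  exact h.symm

lemma πL_toSch (D : AD B₀ A) (e : D.E) :
    πL D.toSch ((Scheme.ΓSpecIso (CommRingCat.of D.E)).inv.hom e) = D.π e := by
  have h := ConcreteCategory.congr_hom
    (Scheme.ΓSpecIso_inv_naturality (CommRingCat.ofHom D.π)) e
  simp only [CommRingCat.comp_apply] at h
  change (Scheme.ΓSpecIso (CommRingCat.of B₀)).hom.hom
    ((Spec.map (CommRingCat.ofHom D.π)).appTop.hom _) = _
  erw [← h]
  exact ConcreteCategory.congr_hom (Scheme.ΓSpecIso (CommRingCat.of B₀)).inv_hom_id _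

/-- a compatible ring map computes the base change. -/
theorem map_cls_eq_of_hom (g : A ⟶ B) (D : AD B₀ A) (D' : AD B₀ B) (τ : D.E →+* D'.E)
    (h1 : ∀ a, τ (D.φ a) = D'.φ (g.toAlgHom a)) (h2 : ∀ e, D'.π (τ e) = D.π e) :
    (defFunctor (Λ := Λ) (XB k B₀) (xB k B₀)).map g D.cls = D'.cls := by
  obtain ⟨e⟩ := baseChange_build_iso g D'.toSch D.φ D.π D.flat D.surj D.comp D.ker
    ((Scheme.ΓSpecIso (CommRingCat.of D'.E)).inv.hom.comp τ)
    (fun a => by
      change (Scheme.ΓSpecIso (CommRingCat.of D'.E)).inv.hom (τ (D.φ a)) = _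
      rw [h1, algebraMap_GR_toSch])
    (fun e => by
      change πL D'.toSch ((Scheme.ΓSpecIso (CommRingCat.of D'.E)).inv.hom (τ e)) = _
      rw [πL_toSch, h2])
  exact Quotient.sound ⟨e⟩

/-- conversely, an equality of classes yields a compatible ring map. -/
theorem exists_hom_of_map_cls_eq (g : A ⟶ B) (D : AD B₀ A) (D' : AD B₀ B)
    (h : (defFunctor (Λ := Λ) (XB k B₀) (xB k B₀)).map g D.cls = D'.cls) :
    ∃ τ : D.E →+* D'.E, (∀ a, τ (D.φ a) = D'.φ (g.toAlgHom a)) ∧ ∀ e, D'.π (τ e) = D.π e := by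
  have h' : Nonempty ((D.toSch.baseChange g).Iso D'.toSch) := Quotient.exact h
  obtain ⟨e⟩ := h'
  let ψ : Spec (CommRingCat.of D'.E) ⟶ Spec (CommRingCat.of D.E) :=
    e.iso.inv ≫ pullback.fst D.toSch.f (specMap g)
  let τ₀ : CommRingCat.of D.E ⟶ CommRingCat.of D'.E := Spec.preimage ψ
  have hτ₀ : Spec.map τ₀ = ψ := Spec.map_preimage ψ
  have hinvf : e.iso.inv ≫ pullback.snd D.toSch.f (specMap g) = D'.toSch.f := by
    rw [Iso.inv_comp_eq]
    exact e.hom_f.symm
  have hinvi : D'.toSch.i ≫ e.iso.inv = (D.toSch.baseChange g).i := by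
    rw [Iso.comp_inv_eq]
    exact e.i_hom.symm
  have c1 : ψ ≫ Spec.map (CommRingCat.ofHom D.φ) =
      Spec.map (CommRingCat.ofHom D'.φ) ≫ specMap g := by
    change (e.iso.inv ≫ pullback.fst D.toSch.f (specMap g)) ≫ D.toSch.f = D'.toSch.f ≫ specMap g
    rw [Category.assoc, pullback.condition, ← Category.assoc, hinvf]
  have c2 : Spec.map (CommRingCat.ofHom D'.π) ≫ ψ = Spec.map (CommRingCat.ofHom D.π) := by
    change D'.toSch.i ≫ e.iso.inv ≫ pullback.fst D.toSch.f (specMap g) = D.toSch.i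
    rw [← Category.assoc, hinvi]
    exact DefSch.baseChange_i_fst D.toSch g
  refine ⟨τ₀.hom, ?_, ?_⟩
  · intro a
    have h3 : CommRingCat.ofHom D.φ ≫ τ₀ =
        CommRingCat.ofHom g.toAlgHom.toRingHom ≫ CommRingCat.ofHom D'.φ := by
      apply Spec.map_injective
      rw [Spec.map_comp, Spec.map_comp, hτ₀]
      exact c1
    exact ConcreteCategory.congr_hom h3 a
  · intro e'
    have h3 : τ₀ ≫ CommRingCat.ofHom D'.π = CommRingCat.ofHom D.π := by
      apply Spec.map_injective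
      rw [Spec.map_comp, hτ₀]
      exact c2
    exact ConcreteCategory.congr_hom h3 e'

end AD

end Groth.Agent.H61.Hull
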