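import Mathlib
import Groth.Agent.H61.AffLift.SchBuild

set_option linter.style.haveILetI false
set_option linter.unusedSectionVars false
set_option autoImplicit false

/-!
# From an affine `k`-scheme smooth outside finitely many points to algebra
-/

open AlgebraicGeometry CategoryTheory CategoryTheory.Limits

namespace Groth.Agent.H61.Hull

universe u

open Groth.Agent.H61.DefAlg Groth.Agent.H61.AffLift

variable {k : Type u} [Field k] (X : Scheme.{u}) [IsAffine X] (x : X ⟶ Spec (CommRingCat.of k))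

/-- the `k`-algebra structure on the global sections of a `k`-scheme. -/
@[reducible] noncomputable def algΓ : Algebra k Γ(X, ⊤) :=
  ((Scheme.ΓSpecIso (CommRingCat.of k)).inv ≫ x.appTop).hom.toAlgebra

lemma isoSpec_hom_xB :
    letI := algΓ X x
    X.isoSpec.hom ≫ xB k Γ(X, ⊤) = x := by
  letI := algΓ X x
  rw [Scheme.isoSpec_hom]
  exact (eq_toSpecΓ_SpecMap x).symm

lemma finiteType_Γ [LocallyOfFiniteType x] :
    letI := algΓ X x
    Algebra.FiniteType k Γ(X, ⊤) := by
  letI := algΓ X x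
  have h1 : RingHom.FiniteType x.appTop.hom :=
    (HasRingHomProperty.iff_of_isAffine (P := @LocallyOfFiniteType)).mp inferInstance
  have h2 : RingHom.FiniteType (Scheme.ΓSpecIso (CommRingCat.of k)).inv.hom :=
    RingHom.FiniteType.of_surjective _
      (ConcreteCategory.bijective_of_isIso (Scheme.ΓSpecIso (CommRingCat.of k)).inv).2
  exact h1.comp h2

/-- formal smoothness of the localization at a basic open contained in the smooth locus. -/
lemma formallySmooth_away (U : X.Opens) (hU : Smooth (U.ι ≫ x)) (t : Γ(X, ⊤))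
    (ht : X.basicOpen t ≤ U) :
    letI := algΓ X x
    Algebra.FormallySmooth k (Localization.Away t) := by
  letI := algΓ X x
  let V := X.basicOpen t
  have hVι : V.ι ≫ x = X.homOfLE ht ≫ U.ι ≫ x := by
    rw [← Category.assoc, Scheme.homOfLE_ι]
  haveI : Smooth (V.ι ≫ x) := by
    rw [hVι]
    infer_instance
  have h1 : RingHom.Smooth (V.ι ≫ x).appTop.hom :=
    (HasRingHomProperty.iff_of_isAffine (P := @Smooth)).mp inferInstance
  have h2 : RingHom.FormallySmooth (V.ι ≫ x).appTop.hom := h1.formallySmooth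
  let α : k →+* Γ(Spec (CommRingCat.of k), ⊤) := (Scheme.ΓSpecIso (CommRingCat.of k)).inv.hom
  have hα : Function.Bijective α :=
    ConcreteCategory.bijective_of_isIso (Scheme.ΓSpecIso (CommRingCat.of k)).inv
  let β : Γ(V, ⊤) ≃ₐ[Γ(X, ⊤)] Localization.Away t :=
    IsLocalization.algEquiv (Submonoid.powers t) _ _
  have h3 : RingHom.FormallySmooth
      ((β : Γ(V, ⊤) →+* Localization.Away t).comp ((V.ι ≫ x).appTop.hom.comp α)) :=
    (RingHom.FormallySmooth.comp (RingHom.FormallySmooth.of_bijective hα) h2).comp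
      (RingHom.FormallySmooth.of_bijective β.bijective)
  have h4 : (β : Γ(V, ⊤) →+* Localization.Away t).comp ((V.ι ≫ x).appTop.hom.comp α) =
      algebraMap k (Localization.Away t) := by
    ext c
    rw [IsScalarTower.algebraMap_apply k Γ(X, ⊤) (Localization.Away t)]
    change β ((V.ι ≫ x).appTop.hom (α c)) = _
    have h5 : (V.ι ≫ x).appTop.hom (α c) = algebraMap Γ(X, ⊤) Γ(V, ⊤) (algebraMap k Γ(X, ⊤) c) := by
      rw [Scheme.Hom.comp_appTop]
      rfl
    rw [h5, AlgEquiv.commutes]
  rw [h4] at h3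
  exact RingHom.formallySmooth_algebraMap.mp h3

/-- the finite set of non-smooth points, in the prime spectrum. -/
def badSet (U : X.Opens) : Set (PrimeSpectrum Γ(X, ⊤)) :=
  {𝔭 | X.isoSpec.inv.base 𝔭 ∉ U}

lemma badSet_finite (U : X.Opens) (hfin : ((U : Set X)ᶜ).Finite) : (badSet X U).Finite := by
  have hinj : Function.Injective X.isoSpec.inv.base :=
    (ConcreteCategory.bijective_of_isIso X.isoSpec.inv.base).1
  exact hfin.preimage hinj.injOn

lemma exists_smooth_away (U : X.Opens) (hU : Smooth (U.ι ≫ x)) (𝔭 : PrimeSpectrum Γ(X, ⊤))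
    (h𝔭 : 𝔭 ∉ badSet X U) :
    letI := algΓ X x
    ∃ t : Γ(X, ⊤), t ∉ 𝔭.asIdeal ∧ Algebra.FormallySmooth k (Localization.Away t) := by
  letI := algΓ X x
  have hp : X.isoSpec.inv.base 𝔭 ∈ U := by
    by_contra h
    exact h𝔭 h
  obtain ⟨t, ht1, ht2⟩ := (isAffineOpen_top X).exists_basicOpen_le ⟨_, hp⟩ trivial
  refine ⟨t, ?_, formallySmooth_away X x U hU t ht1⟩
  intro ht
  have h1 : 𝔭 ∈ PrimeSpectrum.zeroLocus ({t} : Set Γ(X, ⊤)) := by
    rw [PrimeSpectrum.mem_zeroLocus, Set.singleton_subset_iff]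
    exact ht
  rw [← X.isoSpec_inv_preimage_zeroLocus] at h1
  have h2 : X.isoSpec.inv.base 𝔭 ∈ X.zeroLocus ({t} : Set Γ(X, ⊤)) := h1
  rw [Scheme.zeroLocus_singleton] at h2
  exact h2 ht2

end Groth.Agent.H61.Hull
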