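import Groth.Agent.H63.ArtFibre

set_option linter.style.haveILetI false
set_option linter.unusedSectionVars false
set_option autoImplicit false

/-!
# The generator of the kernel of the base change of a small extension
-/

open CategoryTheory

namespace Groth.Agent.H61.Hull

universe u

open ArtFun ArtFun.Art Groth.Agent.H63

variable {Λ : Type u} {k : Type u} [CommRing Λ] [Field k] [Algebra Λ k]
variable {B A A' A'' : Art Λ k} {p' : B ⟶ A'} {p'' : B ⟶ A''} {f' : A' ⟶ A} {f'' : A'' ⟶ A}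

theorem exists_generator (h : IsFibreProd p' p'' f' f'') (hs : IsSmallExt f'') :
    ∃ t : B, p' t = 0 ∧ RingHom.ker p'.toAlgHom = Ideal.span {t} ∧
      RingHom.ker f''.toAlgHom = Ideal.span {p'' t} ∧
      (∀ b ∈ IsLocalRing.maximalIdeal B, b * t = 0) ∧ t ∈ IsLocalRing.maximalIdeal B ∧
      (∀ a ∈ IsLocalRing.maximalIdeal A'', a * p'' t = 0) ∧ p'' t ≠ 0 := by
  obtain ⟨-, -, hprin, hm⟩ := IsFibreProd.fst_isSmallExt h hs
  obtain ⟨t, ht⟩ := hprin.principal
  have ht' : RingHom.ker p'.toAlgHom = Ideal.span {t} := ht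
  have htmem : t ∈ RingHom.ker p'.toAlgHom := by rw [ht']; exact Ideal.subset_span rfl
  have g1 : p' t = 0 := RingHom.mem_ker.1 htmem
  have g2 : f'' (p'' t) = 0 := by
    rw [← h.w_apply, g1, map_zero]
  have g3 : RingHom.ker f''.toAlgHom = Ideal.span {p'' t} := by
    apply le_antisymm
    · intro c hc
      have hc' : f'' c = 0 := RingHom.mem_ker.1 hc
      obtain ⟨b, hb1, hb2⟩ := h.surj 0 c (by rw [map_zero, hc'])
      have hb : b ∈ RingHom.ker p'.toAlgHom := RingHom.mem_ker.2 hb1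
      rw [ht'] at hb
      obtain ⟨d, rfl⟩ := Ideal.mem_span_singleton'.1 hb
      rw [← hb2, map_mul]
      exact Ideal.mul_mem_left _ _ (Ideal.subset_span rfl)
    · rw [Ideal.span_le, Set.singleton_subset_iff]
      exact RingHom.mem_ker.2 g2
  have g4 : ∀ b ∈ IsLocalRing.maximalIdeal B, b * t = 0 := by
    intro b hb
    have : b * t ∈ IsLocalRing.maximalIdeal B * RingHom.ker p'.toAlgHom :=
      Ideal.mul_mem_mul hb htmem
    rwa [hm, Ideal.mem_bot] at this
  have g5 : t ∈ IsLocalRing.maximalIdeal B := by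
    rw [mem_maximalIdeal_iff, ← res_app p', g1, map_zero]
  have g6 : ∀ a ∈ IsLocalRing.maximalIdeal A'', a * p'' t = 0 := by
    intro a ha
    have : a * p'' t ∈ IsLocalRing.maximalIdeal A'' * RingHom.ker f''.toAlgHom :=
      Ideal.mul_mem_mul ha (RingHom.mem_ker.2 g2)
    rwa [hs.2.2.2, Ideal.mem_bot] at this
  have g7 : p'' t ≠ 0 := by
    intro h0
    apply hs.2.1
    rw [g3, h0]
    exact Ideal.span_singleton_eq_bot.mpr rfl
  exact ⟨t, g1, ht', g3, g4, g5, g6, g7⟩

end Groth.Agent.H61.Hull
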