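import Mathlib
import Groth.Agent.H61.Obs.FlatLift
import Groth.Agent.H61.DefAlg.FlatColon

set_option linter.style.haveILetI false
set_option linter.unusedSectionVars false
set_option autoImplicit false

/-!
# Patching flat deformations along a small extension (ring level)

`B = A' ×_A A''` with `A'' → A` a small extension, so that `p' : B → A'` is surjective with kernel
`(t)`, `m_B t = 0`.  Given flat `E'/A'`, `E''/A''` and ring maps `τ' : E' → E`, `τ'' : E'' → E`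
with `τ''` surjective and `ker τ'' = (φ'' (p'' t))`, the fibre product `E' ×_E E''` is flat over
`B` and is a deformation of `B₀`.
-/

namespace Groth.Agent.H61.Hull

universe u

open Groth.Agent.H61.Obs Groth.Agent.H61.DefAlg

section

variable {B A' A'' E' E'' E B₀ : Type u} [CommRing B] [CommRing A'] [CommRing A''] [CommRing E']
  [CommRing E''] [CommRing E] [CommRing B₀]
  (p' : B →+* A') (p'' : B →+* A'') (φ' : A' →+* E') (φ'' : A'' →+* E'')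
  (τ' : E' →+* E) (τ'' : E'' →+* E) (π' : E' →+* B₀) (π'' : E'' →+* B₀)

/-- the fibre product ring `E' ×_E E''`. -/
def PR : Subring (E' × E'') :=
  RingHom.eqLocus (τ'.comp (RingHom.fst E' E'')) (τ''.comp (RingHom.snd E' E''))

lemma mem_PR (z : E' × E'') : z ∈ PR τ' τ'' ↔ τ' z.1 = τ'' z.2 := Iff.rfl

/-- first projection -/
def ρ₁ : PR τ' τ'' →+* E' := (RingHom.fst E' E'').comp (PR τ' τ'').subtype

/-- second projection -/
def ρ₂ : PR τ' τ'' →+* E'' := (RingHom.snd E' E'').comp (PR τ' τ'').subtype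

lemma ρ₁_apply (z : PR τ' τ'') : ρ₁ τ' τ'' z = z.1.1 := rfl
lemma ρ₂_apply (z : PR τ' τ'') : ρ₂ τ' τ'' z = z.1.2 := rfl

lemma τ_ρ (z : PR τ' τ'') : τ' (ρ₁ τ' τ'' z) = τ'' (ρ₂ τ' τ'' z) := z.2

lemma PR_ext {z w : PR τ' τ''} (h1 : ρ₁ τ' τ'' z = ρ₁ τ' τ'' w) (h2 : ρ₂ τ' τ'' z = ρ₂ τ' τ'' w) :
    z = w := Subtype.ext (Prod.ext h1 h2)

/-- the structure map `B → E' ×_E E''`. -/
def φP (hcompat : ∀ b, τ' (φ' (p' b)) = τ'' (φ'' (p'' b))) : B →+* PR τ' τ'' :=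
  RingHom.codRestrict ((φ'.comp p').prod (φ''.comp p'')) (PR τ' τ'') (fun b => hcompat b)

/-- the augmentation. -/
def πP : PR τ' τ'' →+* B₀ := π'.comp (ρ₁ τ' τ'')

variable (hcompat : ∀ b, τ' (φ' (p' b)) = τ'' (φ'' (p'' b)))

lemma ρ₁_φP (b : B) : ρ₁ τ' τ'' (φP p' p'' φ' φ'' τ' τ'' hcompat b) = φ' (p' b) := rfl
lemma ρ₂_φP (b : B) : ρ₂ τ' τ'' (φP p' p'' φ' φ'' τ' τ'' hcompat b) = φ'' (p'' b) := rfl

/-- universal property -/
def PRlift {S : Type u} [CommRing S] (s' : S →+* E') (s'' : S →+* E'')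
    (hs : ∀ x, τ' (s' x) = τ'' (s'' x)) : S →+* PR τ' τ'' :=
  RingHom.codRestrict (s'.prod s'') (PR τ' τ'') (fun x => hs x)

lemma ρ₁_PRlift {S : Type u} [CommRing S] (s' : S →+* E') (s'' : S →+* E'')
    (hs : ∀ x, τ' (s' x) = τ'' (s'' x)) (x : S) : ρ₁ τ' τ'' (PRlift τ' τ'' s' s'' hs x) = s' x := rfl

lemma ρ₂_PRlift {S : Type u} [CommRing S] (s' : S →+* E') (s'' : S →+* E'')
    (hs : ∀ x, τ' (s' x) = τ'' (s'' x)) (x : S) : ρ₂ τ' τ'' (PRlift τ' τ'' s' s'' hs x) = s'' x := rfl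

variable (mB : Ideal B) (mA' : Ideal A') (mA'' : Ideal A'') (t : B)
  (hp' : Function.Surjective p') (hkerp : RingHom.ker p' = Ideal.span {t})
  (hmt : ∀ b ∈ mB, b * t = 0) (htm : t ∈ mB)
  (hmB' : ∀ b, p' b ∈ mA' → b ∈ mB)
  (hmt'' : ∀ a ∈ mA'', a * p'' t = 0) (hann : ∀ a, p'' t * a = 0 → a ∈ mA'')
  (hφ' : φ'.Flat) (hφ'' : φ''.Flat)
  (hτ'' : Function.Surjective τ'') (hkerτ : RingHom.ker τ'' = Ideal.span {φ'' (p'' t)})
  (hπ' : Function.Surjective π') (hkerπ' : RingHom.ker π' = mA'.map φ')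
  (hkerπ'' : RingHom.ker π'' = mA''.map φ'')
  (hππ : ∀ e' e'', τ' e' = τ'' e'' → π' e' = π'' e'')

include hτ'' in
lemma ρ₁_surjective : Function.Surjective (ρ₁ τ' τ'') := by
  intro e'
  obtain ⟨e'', he''⟩ := hτ'' (τ' e')
  exact ⟨⟨(e', e''), he''.symm⟩, rfl⟩

include hπ' hτ'' in
lemma πP_surjective : Function.Surjective (πP τ' τ'' π') :=
  hπ'.comp (ρ₁_surjective τ' τ'' hτ'')

include hmt'' hkerπ'' in
lemma t_mul_eq_zero_of_mem (w : E'') (hw : π'' w = 0) : φ'' (p'' t) * w = 0 := by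
  have hw' : w ∈ mA''.map φ'' := by rw [← hkerπ'']; exact RingHom.mem_ker.2 hw
  have hle : mA''.map φ'' ≤ LinearMap.ker (LinearMap.mul E'' E'' (φ'' (p'' t))) := by
    rw [Ideal.map_le_iff_le_comap]
    intro a ha
    rw [Ideal.mem_comap, LinearMap.mem_ker, LinearMap.mul_apply', ← map_mul, mul_comm, hmt'' a ha,
      map_zero]
  have := hle hw'
  rwa [LinearMap.mem_ker, LinearMap.mul_apply'] at this

include hkerp hτ'' hkerτ hπ' hmt'' hkerπ'' hππ in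
/-- the kernel of the first projection is generated by `t`. -/
lemma exists_eq_t_mul_of_ρ₁_eq_zero (z : PR τ' τ'') (hz : ρ₁ τ' τ'' z = 0) :
    ∃ z' : PR τ' τ'', z = φP p' p'' φ' φ'' τ' τ'' hcompat t * z' := by
  have h1 : τ'' (ρ₂ τ' τ'' z) = 0 := by rw [← τ_ρ, hz, map_zero]
  have h2 : ρ₂ τ' τ'' z ∈ Ideal.span {φ'' (p'' t)} := by rw [← hkerτ]; exact RingHom.mem_ker.2 h1
  obtain ⟨y, hy⟩ := Ideal.mem_span_singleton'.1 h2
  obtain ⟨x₁', hx₁'⟩ := hπ' (π'' y)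
  obtain ⟨x₁'', hx₁''⟩ := hτ'' (τ' x₁')
  have h3 : π'' (x₁'' - y) = 0 := by
    rw [map_sub, ← hππ x₁' x₁'' hx₁''.symm, hx₁', sub_self]
  have h4 := t_mul_eq_zero_of_mem p'' φ'' π'' mA'' t hmt'' hkerπ'' _ h3
  rw [mul_sub, sub_eq_zero] at h4
  refine ⟨⟨(x₁', x₁''), hx₁''.symm⟩, ?_⟩
  apply PR_ext
  · rw [hz, map_mul, ρ₁_φP]
    have : p' t = 0 := by
      have : t ∈ RingHom.ker p' := by rw [hkerp]; exact Ideal.subset_span rfl
      exact RingHom.mem_ker.1 this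
    rw [this, map_zero, zero_mul]
  · rw [map_mul, ρ₂_φP]
    change ρ₂ τ' τ'' z = φ'' (p'' t) * x₁''
    rw [h4, ← hy, mul_comm]

include hp' hmB' hτ'' in
lemma exists_mem_map_of_mem_map (x' : E') (hx' : x' ∈ mA'.map φ') :
    ∃ z₀ : PR τ' τ'', z₀ ∈ mB.map (φP p' p'' φ' φ'' τ' τ'' hcompat) ∧ ρ₁ τ' τ'' z₀ = x' := by
  refine Submodule.span_induction ?_ ?_ ?_ ?_ hx'
  · rintro _ ⟨a', ha', rfl⟩
    obtain ⟨b, rfl⟩ := hp' a'
    exact ⟨φP p' p'' φ' φ'' τ' τ'' hcompat b, Ideal.mem_map_of_mem _ (hmB' b ha'), rfl⟩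
  · exact ⟨0, Ideal.zero_mem _, map_zero _⟩
  · rintro x y _ _ ⟨z₁, hz₁, rfl⟩ ⟨z₂, hz₂, rfl⟩
    exact ⟨z₁ + z₂, Ideal.add_mem _ hz₁ hz₂, map_add _ _ _⟩
  · rintro e x _ ⟨z₁, hz₁, rfl⟩
    obtain ⟨ze, rfl⟩ := ρ₁_surjective τ' τ'' hτ'' e
    exact ⟨ze * z₁, Ideal.mul_mem_left _ _ hz₁, map_mul _ _ _⟩

include hp' hkerp hmB' htm hτ'' hkerτ hπ' hmt'' hkerπ' hkerπ'' hππ in
/-- the kernel of the augmentation is `m_B (E' ×_E E'')`. -/
theorem ker_πP_le : RingHom.ker (πP τ' τ'' π') ≤ mB.map (φP p' p'' φ' φ'' τ' τ'' hcompat) := by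
  intro z hz
  have h1 : ρ₁ τ' τ'' z ∈ mA'.map φ' := by
    rw [← hkerπ']
    exact hz
  obtain ⟨z₀, hz₀, hz₀'⟩ := exists_mem_map_of_mem_map p' p'' φ' φ'' τ' τ'' hcompat mB mA' hp' hmB'
    hτ'' _ h1
  have h2 : ρ₁ τ' τ'' (z - z₀) = 0 := by rw [map_sub, hz₀', sub_self]
  obtain ⟨z', hz'⟩ := exists_eq_t_mul_of_ρ₁_eq_zero p' p'' φ' φ'' τ' τ'' π' π'' hcompat mA'' t hkerp
    hmt'' hτ'' hkerτ hπ' hkerπ'' hππ _ h2
  have h3 : z = z₀ + φP p' p'' φ' φ'' τ' τ'' hcompat t * z' := by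
    rw [← hz']; ring
  rw [h3]
  exact Ideal.add_mem _ hz₀ (Ideal.mul_mem_right _ _ (Ideal.mem_map_of_mem _ htm))

include hp' hkerp hmt htm hmB' hmt'' hann hφ' hφ'' hτ'' hkerτ hπ' hkerπ' hkerπ'' hππ in
/-- **Flatness of the patched ring.** -/
theorem φP_flat : (φP p' p'' φ' φ'' τ' τ'' hcompat).Flat := by
  letI : Algebra B (PR τ' τ'') := (φP p' p'' φ' φ'' τ' τ'' hcompat).toAlgebra
  letI : Algebra A' E' := φ'.toAlgebra
  letI : Algebra A'' E'' := φ''.toAlgebra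
  letI : Module B E' := Module.compHom E' p'
  haveI : Module.Flat A' E' := hφ'
  haveI : Module.Flat A'' E'' := hφ''
  have hsmul : ∀ (b : B) (z : PR τ' τ''),
      b • z = φP p' p'' φ' φ'' τ' τ'' hcompat b * z := fun b z => Algebra.smul_def b z
  let q : PR τ' τ'' →ₗ[B] E' :=
    { toFun := ρ₁ τ' τ''
      map_add' := map_add _
      map_smul' := fun b z => by
        rw [hsmul, map_mul, ρ₁_φP, RingHom.id_apply]
        rfl }
  change Module.Flat B (PR τ' τ'')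
  refine flat_of_small p' hp' hkerp mB hmt htm (fun _ _ => rfl) q (ρ₁_surjective τ' τ'' hτ'')
    ?_ ?_
  · intro z hz
    obtain ⟨z', hz'⟩ := exists_eq_t_mul_of_ρ₁_eq_zero p' p'' φ' φ'' τ' τ'' π' π'' hcompat mA'' t
      hkerp hmt'' hτ'' hkerτ hπ' hkerπ'' hππ z hz
    exact ⟨z', by rw [hsmul]; exact hz'⟩
  · intro z hz
    rw [hsmul] at hz
    have h1 : φ'' (p'' t) * ρ₂ τ' τ'' z = 0 := by
      have := congrArg (ρ₂ τ' τ'') hz
      rwa [map_mul, ρ₂_φP, map_zero] at this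
    -- flatness of `E''`: `ρ₂ z ∈ m E''`
    have h2 : ρ₂ τ' τ'' z ∈ colon (⊥ : Ideal A'') (p'' t) • (⊤ : Submodule A'' E'') := by
      apply mem_colon_smul_top_of_flat
      rw [Submodule.bot_smul, Submodule.mem_bot, Algebra.smul_def]
      exact h1
    have h3 : colon (⊥ : Ideal A'') (p'' t) ≤ mA'' := by
      intro a ha
      rw [mem_colon, Ideal.mem_bot] at ha
      exact hann a ha
    have h4 : ρ₂ τ' τ'' z ∈ mA'' • (⊤ : Submodule A'' E'') := Submodule.smul_mono_left h3 h2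
    rw [Ideal.smul_top_eq_map, Submodule.restrictScalars_mem] at h4
    have h5 : π'' (ρ₂ τ' τ'' z) = 0 := by
      have : ρ₂ τ' τ'' z ∈ RingHom.ker π'' := by rw [hkerπ'']; exact h4
      exact RingHom.mem_ker.1 this
    have h6 : z ∈ RingHom.ker (πP τ' τ'' π') := by
      rw [RingHom.mem_ker]
      change π' (ρ₁ τ' τ'' z) = 0
      rw [hππ _ _ (τ_ρ τ' τ'' z), h5]
    have h7 := ker_πP_le p' p'' φ' φ'' τ' τ'' π' π'' hcompat mB mA' mA'' t hp' hkerp htm hmB' hmt''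
      hτ'' hkerτ hπ' hkerπ' hkerπ'' hππ h6
    rw [Ideal.smul_top_eq_map, Submodule.restrictScalars_mem]
    exact h7

end

end Groth.Agent.H61.Hull
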