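import Mathlib
import Groth.Agent.H27.NilpFin

set_option linter.style.haveILetI false
set_option linter.unusedSectionVars false
set_option autoImplicit false

/-!
# A morphism of flat deformations over a surjection of Artinian bases is surjective, with the
expected kernel.
-/

namespace Groth.Agent.H61.Hull

universe u

open Groth.Agent.H27.NilpFin

section

variable {A B E E' B₀ : Type u} [CommRing A] [CommRing B] [CommRing E] [CommRing E'] [CommRing B₀]

theorem surjective_of_flat_of_nilpotent
    (g : A →+* B) (hg : Function.Surjective g) (φ : A →+* E) (φ' : B →+* E')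
    (π : E →+* B₀) (π' : E' →+* B₀) (mB : Ideal B) (hmB : IsNilpotent mB)
    (hπ : Function.Surjective π) (hker' : RingHom.ker π' = mB.map φ')
    (τ : E →+* E') (h1 : ∀ a, τ (φ a) = φ' (g a)) (h2 : ∀ e, π' (τ e) = π e) :
    Function.Surjective τ := by
  letI : Algebra B E' := φ'.toAlgebra
  let N' : Submodule B E' :=
    { carrier := Set.range τ
      add_mem' := by
        rintro _ _ ⟨x, rfl⟩ ⟨y, rfl⟩
        exact ⟨x + y, map_add _ _ _⟩
      zero_mem' := ⟨0, map_zero _⟩
      smul_mem' := by
        rintro b _ ⟨e, rfl⟩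
        obtain ⟨a, rfl⟩ := hg b
        refine ⟨φ a * e, ?_⟩
        rw [map_mul, h1, Algebra.smul_def]
        rfl }
  have key : (⊤ : Submodule B E') ≤ N' := by
    refine le_of_le_sup_smul_of_isNilpotent mB hmB _ _ ?_
    intro e' _
    obtain ⟨e, he⟩ := hπ (π' e')
    have h3 : e' - τ e ∈ mB • (⊤ : Submodule B E') := by
      rw [Ideal.smul_top_eq_map, Submodule.restrictScalars_mem]
      change e' - τ e ∈ mB.map φ'
      rw [← hker', RingHom.mem_ker, map_sub, h2, he, sub_self]
    have h4 : e' = τ e + (e' - τ e) := by abel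
    rw [h4]
    exact Submodule.add_mem_sup ⟨e, rfl⟩ h3
  intro e'
  exact key (Submodule.mem_top : e' ∈ ⊤)

theorem ker_of_flat_of_nilpotent
    (g : A →+* B) (hg : Function.Surjective g) (φ : A →+* E) (φ' : B →+* E') (hφ' : φ'.Flat)
    (π : E →+* B₀) (π' : E' →+* B₀) (mA : Ideal A) (hmA : IsNilpotent mA)
    (hker : RingHom.ker π = mA.map φ)
    (τ : E →+* E') (hτ : Function.Surjective τ)
    (h1 : ∀ a, τ (φ a) = φ' (g a)) (h2 : ∀ e, π' (τ e) = π e) :
    RingHom.ker τ = (RingHom.ker g).map φ := by
  classical
  letI : Algebra A E := φ.toAlgebra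
  letI : Algebra B E' := φ'.toAlgebra
  haveI : Module.Flat B E' := hφ'
  apply le_antisymm
  swap
  · rw [Ideal.map_le_iff_le_comap]
    intro a ha
    rw [Ideal.mem_comap, RingHom.mem_ker, h1, (RingHom.mem_ker).mp ha, map_zero]
  let K : Submodule A E := (RingHom.ker τ).restrictScalars A
  let J : Submodule A E := (RingHom.ker g) • (⊤ : Submodule A E)
  have hτsmul : ∀ (a : A) (e : E), τ (a • e) = g a • τ e := by
    intro a e
    rw [Algebra.smul_def, Algebra.smul_def, map_mul]
    congr 1
    exact h1 a
  have key : K ≤ J := by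
    refine le_of_le_sup_smul_of_isNilpotent mA hmA _ _ ?_
    intro e he
    have heτ : τ e = 0 := he
    have he1 : e ∈ mA • (⊤ : Submodule A E) := by
      rw [Ideal.smul_top_eq_map, Submodule.restrictScalars_mem]
      change e ∈ mA.map φ
      rw [← hker, RingHom.mem_ker, ← h2, heτ, map_zero]
    have htop : (⊤ : Submodule A E) = Submodule.span A (Set.range (id : E → E)) := by
      rw [Set.range_id, Submodule.span_univ]
    rw [htop, Submodule.mem_ideal_smul_span_iff_exists_sum] at he1
    obtain ⟨c, hc, hsum⟩ := he1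
    -- the relation in `E'`
    let ι := ↥c.support
    have hsum' : e = ∑ i : ι, c i.1 • (i.1 : E) := by
      rw [← hsum, Finsupp.sum, ← Finset.sum_coe_sort]
      rfl
    have hrel : ∑ i : ι, g (c i.1) • τ (i.1 : E) = 0 := by
      rw [← heτ, hsum', map_sum]
      exact Finset.sum_congr rfl fun i _ => (hτsmul _ _).symm
    obtain ⟨l, b, y, hy, hb⟩ := Module.Flat.isTrivialRelation_of_sum_smul_eq_zero (R := B) (M := E')
      (f := fun i : ι => g (c i.1)) (x := fun i : ι => τ (i.1 : E)) hrel
    choose a' ha' using fun (i : ι) (j : Fin l) => hg (b i j)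
    choose y' hy' using fun j : Fin l => hτ (y j)
    let d : ι → E := fun i => (i.1 : E) - ∑ j, a' i j • y' j
    have hd : ∀ i, d i ∈ K := by
      intro i
      change τ (d i) = 0
      have hyi : τ (i.1 : E) = ∑ j, b i j • y j := hy i
      rw [map_sub, map_sum, hyi, sub_eq_zero]
      refine Finset.sum_congr rfl fun j _ => ?_
      rw [hτsmul, ha', hy']
    let cj : Fin l → A := fun j => ∑ i : ι, c i.1 * a' i j
    have hcj : ∀ j, cj j ∈ RingHom.ker g := by
      intro j
      have hbj : ∑ i : ι, g (c i.1) * b i j = 0 := hb j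
      rw [RingHom.mem_ker, map_sum, ← hbj]
      refine Finset.sum_congr rfl fun i _ => ?_
      rw [map_mul, ha']
    have hdecomp : e = ∑ j, cj j • y' j + ∑ i : ι, c i.1 • d i := by
      have h3 : ∀ i : ι, c i.1 • d i = c i.1 • (i.1 : E) - ∑ j, (c i.1 * a' i j) • y' j := by
        intro i
        change c i.1 • ((i.1 : E) - ∑ j, a' i j • y' j) = _
        rw [smul_sub, Finset.smul_sum]
        congr 1
        refine Finset.sum_congr rfl fun j _ => ?_
        rw [mul_smul]
      have h4 : ∑ j, cj j • y' j = ∑ i : ι, ∑ j, (c i.1 * a' i j) • y' j := by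
        rw [Finset.sum_comm]
        refine Finset.sum_congr rfl fun j _ => ?_
        change (∑ i : ι, c i.1 * a' i j) • y' j = _
        rw [Finset.sum_smul]
      rw [h4, ← Finset.sum_add_distrib, hsum']
      refine Finset.sum_congr rfl fun i _ => ?_
      rw [h3]
      abel
    rw [hdecomp]
    refine Submodule.add_mem_sup ?_ ?_
    · refine Submodule.sum_mem _ fun j _ => ?_
      exact Submodule.smul_mem_smul (hcj j) Submodule.mem_top
    · refine Submodule.sum_mem _ fun i _ => ?_
      exact Submodule.smul_mem_smul (hc _) (hd i)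
  intro e he
  have h5 : e ∈ J := key he
  change e ∈ (RingHom.ker g) • (⊤ : Submodule A E) at h5
  rw [Ideal.smul_top_eq_map, Submodule.restrictScalars_mem] at h5
  exact h5

end

end Groth.Agent.H61.Hull
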