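import Groth.Agent.H61.Hull.AD
import Groth.Agent.H61.Hull.SurjKer
import Groth.Agent.H61.Hull.FibGen
import Groth.Agent.H61.Hull.PatchRing
import Groth.Agent.H61.SmallDual
import Groth.Agent.H63.ArtPaste

set_option linter.style.haveILetI false
set_option linter.unusedSectionVars false
set_option autoImplicit false

/-!
# Schlessinger's conditions `H0`, `H̄`, `H_ε` for the deformation functor of an affine scheme
-/

open AlgebraicGeometry CategoryTheory CategoryTheory.Limits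

namespace Groth.Agent.H61.Hull

universe u

open ArtFun ArtFun.Art Groth.Agent.H61.DefAlg Groth.Agent.H61.Obs Groth.Agent.H63

variable {Λ : Type u} {k : Type u} [CommRing Λ] [Field k] [Algebra Λ k]
  {B₀ : Type u} [CommRing B₀] [Algebra k B₀]

section Patch

variable {B A A' A'' : Art Λ k} {p' : B ⟶ A'} {p'' : B ⟶ A''} {f' : A' ⟶ A} {f'' : A'' ⟶ A}

theorem exists_patch (h : IsFibreProd p' p'' f' f'') (hs : IsSmallExt f'')
    (D' : AD B₀ A') (D'' : AD B₀ A'') (D : AD B₀ A)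
    (τ' : D'.E →+* D.E) (τ'' : D''.E →+* D.E)
    (hτ'φ : ∀ a, τ' (D'.φ a) = D.φ (f'.toAlgHom a)) (hτ'π : ∀ e, D.π (τ' e) = D'.π e)
    (hτ''φ : ∀ a, τ'' (D''.φ a) = D.φ (f''.toAlgHom a)) (hτ''π : ∀ e, D.π (τ'' e) = D''.π e) :
    ∃ (Dp : AD B₀ B) (ρ' : Dp.E →+* D'.E) (ρ'' : Dp.E →+* D''.E),
      (∀ b, ρ' (Dp.φ b) = D'.φ (p'.toAlgHom b)) ∧ (∀ z, D'.π (ρ' z) = Dp.π z) ∧
      (∀ b, ρ'' (Dp.φ b) = D''.φ (p''.toAlgHom b)) ∧ (∀ z, D''.π (ρ'' z) = Dp.π z) ∧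
      (∀ z w, ρ' z = ρ' w → ρ'' z = ρ'' w → z = w) ∧
      (∀ (S : Type u) [CommRing S] (s' : S →+* D'.E) (s'' : S →+* D''.E),
        (∀ x, τ' (s' x) = τ'' (s'' x)) →
        ∃ s : S →+* Dp.E, (∀ x, ρ' (s x) = s' x) ∧ ∀ x, ρ'' (s x) = s'' x) := by
  obtain ⟨t, g1, g2, g3, g4, g5, g6, g7⟩ := exists_generator h hs
  let P' : B →+* A' := p'.toAlgHom
  let P'' : B →+* A'' := p''.toAlgHom
  have hcompat : ∀ b, τ' (D'.φ (P' b)) = τ'' (D''.φ (P'' b)) := by
    intro b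
    rw [hτ'φ, hτ''φ]
    congr 1
    exact h.w_apply b
  have hp' : Function.Surjective P' := IsFibreProd.fst_surjective h hs.1
  have hkerp : RingHom.ker P' = Ideal.span {t} := by
    rw [← g2]
    exact Ideal.ext fun x => Iff.rfl
  have hmB' : ∀ b, P' b ∈ IsLocalRing.maximalIdeal A' → b ∈ IsLocalRing.maximalIdeal B := by
    intro b hb
    rw [mem_maximalIdeal_iff] at hb ⊢
    rw [← hb]
    exact (res_app p' b).symm
  have hann : ∀ a, P'' t * a = 0 → a ∈ IsLocalRing.maximalIdeal A'' := by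
    intro a ha
    by_contra hna
    have hu : IsUnit a := IsLocalRing.notMem_maximalIdeal.mp hna
    apply g7
    have := hu.mul_left_eq_zero.mp ha
    exact this
  have hτ'' : Function.Surjective τ'' :=
    surjective_of_flat_of_nilpotent (f''.toAlgHom : A'' →+* A) hs.1 D''.φ D.φ D''.π D.π
      (IsLocalRing.maximalIdeal A) (exists_nilpotent_maximalIdeal A) D''.surj D.ker τ'' hτ''φ hτ''π
  have hkerτ : RingHom.ker τ'' = Ideal.span {D''.φ (P'' t)} := by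
    rw [ker_of_flat_of_nilpotent (f''.toAlgHom : A'' →+* A) hs.1 D''.φ D.φ D.flat D''.π D.π
      (IsLocalRing.maximalIdeal A'') (exists_nilpotent_maximalIdeal A'') D''.ker τ'' hτ'' hτ''φ hτ''π]
    have : RingHom.ker (f''.toAlgHom : A'' →+* A) = Ideal.span {p'' t} := by
      rw [← g3]
      exact Ideal.ext fun x => Iff.rfl
    rw [this, Ideal.map_span, Set.image_singleton]
    rfl
  have hππ : ∀ e' e'', τ' e' = τ'' e'' → D'.π e' = D''.π e'' := by
    intro e' e'' he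
    rw [← hτ'π, ← hτ''π, he]
  have hflat := φP_flat P' P'' D'.φ D''.φ τ' τ'' D'.π D''.π hcompat (IsLocalRing.maximalIdeal B)
    (IsLocalRing.maximalIdeal A') (IsLocalRing.maximalIdeal A'') t hp' hkerp g4 g5 hmB' g6 hann
    D'.flat D''.flat hτ'' hkerτ D'.surj D'.ker D''.ker hππ
  have hcomp : ∀ b, πP τ' τ'' D'.π (φP P' P'' D'.φ D''.φ τ' τ'' hcompat b) =
      algebraMap k B₀ (B.res b) := by
    intro b
    change D'.π (D'.φ (P' b)) = _
    rw [D'.comp]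
    congr 1
    exact res_app p' b
  have hker : RingHom.ker (πP τ' τ'' D'.π) =
      (IsLocalRing.maximalIdeal B).map (φP P' P'' D'.φ D''.φ τ' τ'' hcompat) := by
    apply le_antisymm
    · exact ker_πP_le P' P'' D'.φ D''.φ τ' τ'' D'.π D''.π hcompat (IsLocalRing.maximalIdeal B)
        (IsLocalRing.maximalIdeal A') (IsLocalRing.maximalIdeal A'') t hp' hkerp g5 hmB' g6
        hτ'' hkerτ D'.surj D'.ker D''.ker hππ
    · rw [Ideal.map_le_iff_le_comap]
      intro b hb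
      rw [Ideal.mem_comap, RingHom.mem_ker, hcomp, (mem_maximalIdeal_iff B b).mp hb, map_zero]
  let Dp : AD B₀ B :=
    { E := PR τ' τ''
      φ := φP P' P'' D'.φ D''.φ τ' τ'' hcompat
      π := πP τ' τ'' D'.π
      flat := hflat
      surj := πP_surjective τ' τ'' D'.π hτ'' D'.surj
      comp := hcomp
      ker := hker }
  refine ⟨Dp, ρ₁ τ' τ'', ρ₂ τ' τ'', fun _ => rfl, fun _ => rfl, fun _ => rfl, ?_, ?_, ?_⟩
  · intro z
    exact (hππ _ _ (τ_ρ τ' τ'' z)).symm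
  · intro z w h1 h2
    exact PR_ext τ' τ'' h1 h2
  · intro S _ s' s'' hs'
    exact ⟨PRlift τ' τ'' s' s'' hs', fun _ => rfl, fun _ => rfl⟩

end Patch

/-- `H̄` for the deformation functor of `Spec B₀`. -/
theorem hbar : Hbar (defFunctor (Λ := Λ) (XB k B₀) (xB k B₀)) := by
  intro B A A' A'' p' p'' f' f'' h hs
  rw [cmp_surjective_iff]
  intro x' x'' hx
  obtain ⟨D', rfl⟩ := AD.exists_cls_eq x'
  obtain ⟨D'', rfl⟩ := AD.exists_cls_eq x''
  obtain ⟨D, hD⟩ := AD.exists_cls_eq ((defFunctor (Λ := Λ) (XB k B₀) (xB k B₀)).map f' D'.cls)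
  obtain ⟨τ', h1, h2⟩ := AD.exists_hom_of_map_cls_eq f' D' D hD.symm
  obtain ⟨τ'', h3, h4⟩ := AD.exists_hom_of_map_cls_eq f'' D'' D (hx.symm.trans hD.symm)
  obtain ⟨Dp, ρ', ρ'', a1, a2, a3, a4, -, -⟩ := exists_patch h hs D' D'' D τ' τ'' h1 h2 h3 h4
  exact ⟨Dp.cls, AD.map_cls_eq_of_hom p' Dp D' ρ' a1 a2, AD.map_cls_eq_of_hom p'' Dp D'' ρ'' a3 a4⟩

section Base

lemma maximalIdeal_base : IsLocalRing.maximalIdeal (base Λ k) = ⊥ := by
  ext a
  rw [mem_maximalIdeal_iff, Ideal.mem_bot]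
  rfl

lemma AD.π_bijective_of_base (D₀ : AD B₀ (base Λ k)) : Function.Bijective D₀.π := by
  refine ⟨?_, D₀.surj⟩
  rw [injective_iff_map_eq_zero]
  intro e he
  have : e ∈ RingHom.ker D₀.π := RingHom.mem_ker.2 he
  rw [D₀.ker, maximalIdeal_base, Ideal.map_bot, Ideal.mem_bot] at this
  exact this

/-- every deformation maps to any deformation over the base field. -/
lemma AD.exists_hom_to_base {A : Art Λ k} (D : AD B₀ A) (D₀ : AD B₀ (base Λ k)) :
    ∃ τ : D.E →+* D₀.E, (∀ a, τ (D.φ a) = D₀.φ ((toBase A).toAlgHom a)) ∧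
      ∀ e, D₀.π (τ e) = D.π e := by
  let eq : D₀.E ≃+* B₀ := RingEquiv.ofBijective D₀.π (AD.π_bijective_of_base D₀)
  have heq : ∀ e, D₀.π (eq.symm e) = e := fun e => eq.apply_symm_apply e
  refine ⟨(eq.symm : B₀ →+* D₀.E).comp D.π, ?_, ?_⟩
  · intro a
    apply (AD.π_bijective_of_base D₀).1
    change D₀.π (eq.symm (D.π (D.φ a))) = _
    rw [heq, D.comp, D₀.comp]
    rfl
  · intro e
    exact heq _

/-- the trivial deformation over the base field. -/
noncomputable def AD.baseAD : AD B₀ (base Λ k) where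
  E := B₀
  φ := algebraMap k B₀
  π := RingHom.id B₀
  flat := (RingHom.flat_algebraMap_iff (R := k) (S := B₀)).mpr inferInstance
  surj := Function.surjective_id
  comp := fun _ => rfl
  ker := by
    rw [maximalIdeal_base, Ideal.map_bot]
    ext x
    rw [RingHom.mem_ker, Ideal.mem_bot]
    rfl

end Base

/-- `H0` for the deformation functor of `Spec B₀`. -/
theorem h0 : H0 (defFunctor (Λ := Λ) (XB k B₀) (xB k B₀)) := by
  refine ⟨⟨(AD.baseAD (Λ := Λ) (k := k) (B₀ := B₀)).cls⟩, ⟨fun x y => ?_⟩⟩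
  obtain ⟨D₁, rfl⟩ := AD.exists_cls_eq x
  obtain ⟨D₂, rfl⟩ := AD.exists_cls_eq y
  obtain ⟨τ, h1, h2⟩ := AD.exists_hom_to_base D₁ D₂
  have := AD.map_cls_eq_of_hom (toBase (base Λ k)) D₁ D₂ τ h1 h2
  rw [← this]
  have hid : toBase (base Λ k) = 𝟙 (base Λ k) := (eq_toBase _).symm
  rw [hid, CategoryTheory.Functor.map_id]
  rfl

/-- `H_ε` for the deformation functor of `Spec B₀`. -/
theorem heps : Heps (defFunctor (Λ := Λ) (XB k B₀) (xB k B₀)) := by
  intro B A' p' p'' h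
  refine ⟨?_, hbar p' p'' _ _ h isSmallExt_toBase_dual⟩
  rw [cmp_injective_iff]
  intro y₁ y₂ e1 e2
  obtain ⟨D₁, rfl⟩ := AD.exists_cls_eq y₁
  obtain ⟨D₂, rfl⟩ := AD.exists_cls_eq y₂
  obtain ⟨D', hD'⟩ := AD.exists_cls_eq ((defFunctor (Λ := Λ) (XB k B₀) (xB k B₀)).map p' D₁.cls)
  obtain ⟨D'', hD''⟩ := AD.exists_cls_eq ((defFunctor (Λ := Λ) (XB k B₀) (xB k B₀)).map p'' D₁.cls)
  let D₀ : AD B₀ (base Λ k) := AD.baseAD
  obtain ⟨τ', a1, a2⟩ := AD.exists_hom_to_base D' D₀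
  obtain ⟨τ'', a3, a4⟩ := AD.exists_hom_to_base D'' D₀
  obtain ⟨Dp, ρ', ρ'', b1, b2, b3, b4, hinj, huniv⟩ :=
    exists_patch h isSmallExt_toBase_dual D' D'' D₀ τ' τ'' a1 a2 a3 a4
  -- both `D₁` and `D₂` map to the patch
  have key : ∀ Dx : AD B₀ B,
      (defFunctor (Λ := Λ) (XB k B₀) (xB k B₀)).map p' Dx.cls = D'.cls →
      (defFunctor (Λ := Λ) (XB k B₀) (xB k B₀)).map p'' Dx.cls = D''.cls → Dx.cls = Dp.cls := by
    intro Dx h1 h2
    obtain ⟨σ', c1, c2⟩ := AD.exists_hom_of_map_cls_eq p' Dx D' h1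
    obtain ⟨σ'', c3, c4⟩ := AD.exists_hom_of_map_cls_eq p'' Dx D'' h2
    have hσ : ∀ x, τ' (σ' x) = τ'' (σ'' x) := by
      intro x
      apply (AD.π_bijective_of_base D₀).1
      rw [a2, a4, c2, c4]
    obtain ⟨s, hs1, hs2⟩ := huniv Dx.E σ' σ'' hσ
    have := AD.map_cls_eq_of_hom (𝟙 B) Dx Dp s
      (fun b => by
        apply hinj
        · rw [hs1, c1, b1]; rfl
        · rw [hs2, c3, b3]; rfl)
      (fun e => by rw [← b2, hs1, c2])
    rw [← this, CategoryTheory.Functor.map_id]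
    rfl
  rw [key D₁ hD'.symm hD''.symm, key D₂ (e1.symm.trans hD'.symm) (e2.symm.trans hD''.symm)]

end Groth.Agent.H61.Hull
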