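import Mathlib
import Groth.Agent.H61.TszeObj
import Groth.Agent.H61.Tangent
import Groth.Prelude.Def_ArtFun5

set_option linter.style.haveILetI false
set_option linter.unusedSectionVars false
set_option autoImplicit false

/-!
# The embedding dimension of a hull, read off from a universal first-order family
-/

namespace Groth.Agent.H61.Hull

universe u v

open ArtFun ArtFun.Art CategoryTheory Groth.Agent.H61

variable {k : Type u} [Field k]

section

variable {F : Art k k ⥤ Type v} (R : CRing k k) (ξ : Family R.carrier R.res F) (n : ℕ)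
  (u : HomSet R.carrier R.res (tszeArt k k (Fin n → k)))

/-- the `V`-component of `u`. -/
noncomputable def sndU (r : R.carrier) : Fin n → k :=
  TrivSqZeroExt.snd (u.1 r : TrivSqZeroExt k (Fin n → k))

lemma fst_u (r : R.carrier) : TrivSqZeroExt.fst (u.1 r : TrivSqZeroExt k (Fin n → k)) = R.res r :=
  congrArg (fun t : R.carrier →ₐ[k] k => t r) u.2

lemma sndU_add (a b : R.carrier) : sndU R n u (a + b) = sndU R n u a + sndU R n u b := by
  unfold sndU
  rw [map_add]
  rfl

lemma sndU_mul (a b : R.carrier) :
    sndU R n u (a * b) = R.res a • sndU R n u b + R.res b • sndU R n u a := by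
  have h1 : ∀ x y : TrivSqZeroExt k (Fin n → k), TrivSqZeroExt.snd (x * y) =
      TrivSqZeroExt.fst x • TrivSqZeroExt.snd y + TrivSqZeroExt.fst y • TrivSqZeroExt.snd x := by
    intro x y
    rw [TrivSqZeroExt.snd_mul, op_smul_eq_smul]
  have h2 : sndU R n u (a * b) = TrivSqZeroExt.snd ((u.1 a : TrivSqZeroExt k (Fin n → k)) *
      (u.1 b : TrivSqZeroExt k (Fin n → k))) := by
    unfold sndU
    rw [map_mul]
  rw [h2]
  refine (h1 _ _).trans ?_
  rw [fst_u, fst_u]
  rfl

lemma sndU_algebraMap (c : k) : sndU R n u (algebraMap k R.carrier c) = 0 := by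
  unfold sndU
  rw [AlgHom.commutes]
  rfl

lemma sndU_sum {α : Type*} (s : Finset α) (f : α → R.carrier) :
    sndU R n u (∑ i ∈ s, f i) = ∑ i ∈ s, sndU R n u (f i) := by
  classical
  induction s using Finset.induction_on with
  | empty =>
    rw [Finset.sum_empty, Finset.sum_empty]
    have := sndU_algebraMap R n u 0
    rwa [map_zero] at this
  | insert a s ha ih => rw [Finset.sum_insert ha, Finset.sum_insert ha, sndU_add, ih]

lemma res_algebraMap' (c : k) : R.res (algebraMap k R.carrier c) = c := by
  rw [AlgHom.commutes]
  rfl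

lemma sub_mem_maximalIdeal (r : R.carrier) :
    r - algebraMap k R.carrier (R.res r) ∈ IsLocalRing.maximalIdeal R.carrier := by
  rw [CRing.mem_maximalIdeal_iff, map_sub, res_algebraMap', sub_self]

lemma sndU_sub_const (r : R.carrier) :
    sndU R n u (r - algebraMap k R.carrier (R.res r)) = sndU R n u r := by
  have h : r = (r - algebraMap k R.carrier (R.res r)) + algebraMap k R.carrier (R.res r) := by ring
  conv_rhs => rw [h, sndU_add, sndU_algebraMap, add_zero]

/-- the composite `R → k[V] → k[ε]` in terms of `sndU`. -/
lemma map_tszeToDual_apply (l : (Fin n → k) →ₗ[k] k) (r : R.carrier) :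
    ((HomSet.map (tszeToDual l) u).1 r : DualNumber k) =
      (TrivSqZeroExt.inl (R.res r) + TrivSqZeroExt.inr (l (sndU R n u r)) : DualNumber k) := by
  apply TrivSqZeroExt.ext
  · change TrivSqZeroExt.fst (u.1 r : TrivSqZeroExt k (Fin n → k)) = _
    rw [fst_u, TrivSqZeroExt.fst_add, TrivSqZeroExt.fst_inl, TrivSqZeroExt.fst_inr, add_zero]
  · change l (TrivSqZeroExt.snd (u.1 r : TrivSqZeroExt k (Fin n → k))) = _
    rw [TrivSqZeroExt.snd_add, TrivSqZeroExt.snd_inl, TrivSqZeroExt.snd_inr, zero_add]
    rfl

end

/-- **The embedding dimension of a hull.**  If `F` has a family `η` over `k[V]`, `V = kⁿ`,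
whose characteristic map `V^∨ → F(k[ε])` is bijective, then the maximal ideal of every hull of `F`
is minimally generated by `n` elements. -/
theorem spanFinrank_maximalIdeal_eq {F : Art k k ⥤ Type v} (h0 : H0 F) (R : CRing k k)
    (ξ : Family R.carrier R.res F) (hξ : IsMiniversal ξ) (n : ℕ)
    (η : F.obj (tszeArt k k (Fin n → k)))
    (hη : Function.Bijective (fun l : (Fin n → k) →ₗ[k] k => F.map (tszeToDual l) η)) :
    (IsLocalRing.maximalIdeal R.carrier).spanFinrank = n := by
  classical
  haveI := h0.2
  -- the classifying map of `η`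
  let φ₀ : HomSet R.carrier R.res (base k k) := ⟨R.res, AlgHom.id_comp _⟩
  obtain ⟨u, -, hu⟩ := hξ.1 (toBase (tszeArt k k (Fin n → k)))
    (fun c => ⟨(TrivSqZeroExt.inl c : TrivSqZeroExt k (Fin n → k)), rfl⟩) φ₀ η
    (Subsingleton.elim _ _)
  -- the induced bijection
  let Ψ : ((Fin n → k) →ₗ[k] k) → HomSet R.carrier R.res (dual k k) :=
    fun l => HomSet.map (tszeToDual l) u
  have hΨ : Function.Bijective Ψ := by
    have h1 : (fun l : (Fin n → k) →ₗ[k] k => F.map (tszeToDual l) η) =
        (ξ.app (dual k k)) ∘ Ψ := by
      funext l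
      change _ = ξ.app (dual k k) (HomSet.map (tszeToDual l) u)
      rw [ξ.natural, hu]
    rw [h1] at hη
    exact (Function.Bijective.of_comp_iff' hξ.2 Ψ).mp hη
  set m := IsLocalRing.maximalIdeal R.carrier with hm
  -- surjectivity of `sndU` on the maximal ideal
  have hsurj : ∀ v : Fin n → k, ∃ a ∈ m, sndU R n u a = v := by
    let W : Submodule k (Fin n → k) :=
      { carrier := {v | ∃ a ∈ m, sndU R n u a = v}
        add_mem' := by
          rintro _ _ ⟨a, ha, rfl⟩ ⟨b, hb, rfl⟩
          exact ⟨a + b, Ideal.add_mem _ ha hb, sndU_add R n u a b⟩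
        zero_mem' := ⟨0, Ideal.zero_mem _, by
          have := sndU_algebraMap R n u 0
          rwa [map_zero] at this⟩
        smul_mem' := by
          rintro c _ ⟨a, ha, rfl⟩
          refine ⟨algebraMap k R.carrier c * a, Ideal.mul_mem_left _ _ ha, ?_⟩
          rw [sndU_mul, sndU_algebraMap, smul_zero, add_zero, res_algebraMap'] }
    by_contra hne
    have hW : W ≠ ⊤ := by
      intro hW
      apply hne
      intro v
      have : v ∈ W := by rw [hW]; exact Submodule.mem_top
      exact this
    obtain ⟨l, hl0, hlW⟩ := Submodule.exists_le_ker_of_lt_top W (lt_top_iff_ne_top.mpr hW)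
    apply hl0
    apply hΨ.1
    apply Subtype.ext
    apply AlgHom.ext
    intro r
    change (HomSet.map (tszeToDual l) u).1 r = (HomSet.map (tszeToDual 0) u).1 r
    rw [map_tszeToDual_apply, map_tszeToDual_apply, LinearMap.zero_apply]
    congr 2
    rw [← sndU_sub_const]
    exact hlW ⟨_, sub_mem_maximalIdeal R r, rfl⟩
  -- injectivity modulo `m²`
  have hinj : ∀ a ∈ m, sndU R n u a = 0 → a ∈ m ^ 2 := by
    intro a ha h0'
    by_contra hna
    let T := R.trunc 1
    have hT : IsLocalRing.maximalIdeal T ^ 2 = ⊥ := trunc_maximalIdeal_pow R 1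
    let t : T := (R.truncHom 1).1 a
    have ht0 : t ≠ 0 := by
      intro h
      apply hna
      exact Ideal.Quotient.eq_zero_iff_mem.mp h
    have htm : t ∈ IsLocalRing.maximalIdeal T := by
      rw [Art.mem_maximalIdeal_iff]
      change R.res a = 0
      exact (CRing.mem_maximalIdeal_iff R a).mp ha
    obtain ⟨π, hπ⟩ := exists_tangentMap_ne T hT htm ht0
    obtain ⟨l, hl⟩ := hΨ.2 (HomSet.map π (R.truncHom 1))
    apply hπ
    have h1 := congrArg (fun ψ : HomSet R.carrier R.res (dual k k) => ψ.1 a) hl
    change (HomSet.map (tszeToDual l) u).1 a = π t at h1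
    rw [← h1, map_tszeToDual_apply, h0', map_zero, (CRing.mem_maximalIdeal_iff R a).mp ha]
    rw [TrivSqZeroExt.inl_zero, TrivSqZeroExt.inr_zero, add_zero]
    rfl
  have hfg : Submodule.FG (m : Submodule R.carrier R.carrier) := IsNoetherian.noetherian m
  apply le_antisymm
  · -- generators lifting the standard basis
    choose g hgm hg using fun i : Fin n => hsurj (Pi.single i 1)
    have hle : m ≤ Ideal.span (Set.range g) := by
      apply Submodule.le_of_le_smul_of_le_jacobson_bot hfg
        (by rw [IsLocalRing.jacobson_eq_maximalIdeal ⊥ bot_ne_top])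
      intro a ha
      let a' : R.carrier := a - ∑ i, algebraMap k R.carrier (sndU R n u a i) * g i
      have ha' : a' ∈ m := Ideal.sub_mem _ ha
        (Ideal.sum_mem _ fun i _ => Ideal.mul_mem_left _ _ (hgm i))
      have hs : sndU R n u a' = 0 := by
        have h1 : a = a' + ∑ i, algebraMap k R.carrier (sndU R n u a i) * g i := by
          change a = (a - _) + _
          ring
        have h2 : sndU R n u (∑ i, algebraMap k R.carrier (sndU R n u a i) * g i) =
            sndU R n u a := by
          rw [sndU_sum]
          funext j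
          rw [Finset.sum_apply]
          have h3 : ∀ i, sndU R n u (algebraMap k R.carrier (sndU R n u a i) * g i) j =
              sndU R n u a i * (Pi.single i (1 : k) : Fin n → k) j := by
            intro i
            rw [sndU_mul, sndU_algebraMap, smul_zero, add_zero, res_algebraMap', hg i]
            rfl
          rw [Finset.sum_congr rfl fun i _ => h3 i]
          simp [Pi.single_apply]
        have h4 := congrArg (sndU R n u) h1
        rw [sndU_add, h2] at h4
        exact right_eq_add.mp h4
      have h5 := hinj a' ha' hs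
      have h6 : a = ∑ i, algebraMap k R.carrier (sndU R n u a i) * g i + a' := by
        change a = _ + (a - _)
        ring
      rw [h6]
      refine Submodule.add_mem_sup (Ideal.sum_mem _ fun i _ => Ideal.mul_mem_left _ _
        (Ideal.subset_span ⟨i, rfl⟩)) ?_
      rw [pow_two] at h5
      exact h5
    have heq : m = Ideal.span (Set.range g) := by
      apply le_antisymm hle
      rw [Ideal.span_le]
      rintro _ ⟨i, rfl⟩
      exact hgm i
    rw [heq]
    refine (Submodule.spanFinrank_span_le_ncard_of_finite (Set.finite_range _)).trans ?_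
    have : Set.range g = g '' Set.univ := Set.image_univ.symm
    rw [this]
    refine (Set.ncard_image_le Set.finite_univ).trans ?_
    rw [Set.ncard_univ, Nat.card_eq_fintype_card, Fintype.card_fin]
  · obtain ⟨s, hscard, hsspan⟩ := hfg.exists_span_finset_card_eq_spanFinrank
    -- the images of the generators span `V`
    have hspan : (⊤ : Submodule k (Fin n → k)) ≤
        Submodule.span k ((fun x : R.carrier => sndU R n u x) '' (s : Set R.carrier)) := by
      intro v _
      obtain ⟨a, ha, rfl⟩ := hsurj v
      have ha' : a ∈ Submodule.span R.carrier (s : Set R.carrier) := by rw [hsspan]; exact ha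
      rw [Submodule.mem_span_finset] at ha'
      obtain ⟨f, -, rfl⟩ := ha'
      rw [sndU_sum]
      refine Submodule.sum_mem _ fun x hx => ?_
      have hxm : x ∈ m := by
        rw [← hsspan]
        exact Submodule.subset_span hx
      rw [smul_eq_mul, sndU_mul, (CRing.mem_maximalIdeal_iff R x).mp hxm, zero_smul, add_zero]
      exact Submodule.smul_mem _ _ (Submodule.subset_span ⟨x, hx, rfl⟩)
    have h1 : Module.finrank k (Fin n → k) ≤
        (((fun x : R.carrier => sndU R n u x) '' (s : Set R.carrier)).toFinite.toFinset).card := by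
      have h2 := finrank_span_le_card (R := k)
        ((fun x : R.carrier => sndU R n u x) '' (s : Set R.carrier))
      rw [top_le_iff.mp hspan, finrank_top] at h2
      convert h2 using 1
      simp
    rw [Module.finrank_fin_fun] at h1
    rw [← hscard]
    refine h1.trans ?_
    rw [← Set.ncard_eq_toFinset_card _ _]
    refine (Set.ncard_image_le (Finset.finite_toSet s)).trans ?_
    rw [Set.ncard_coe_finset]

end Groth.Agent.H61.Hull
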