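import Groth.Agent.H61.Hull.ToExt

set_option linter.style.haveILetI false
set_option linter.unusedSectionVars false
set_option autoImplicit false

/-!
# Extensions of `B₀` by `B₀` with the same first-order deformation class are equivalent
-/

open AlgebraicGeometry CategoryTheory CategoryTheory.Limits

namespace Groth.Agent.H61.Hull

universe u

open ArtFun ArtFun.Art Groth.Agent.H61.DefAlg Groth.Agent.H61.Obs Groth.Agent.H63
  Groth.Agent.H29.ExalL

variable {Λ : Type u} {k : Type u} [CommRing Λ] [Field k] [Algebra Λ k]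
  {B₀ : Type u} [CommRing B₀] [Algebra k B₀]

/-- `ε` maps to `incl 1`. -/
lemma extφ₁_eps (X : Exal.Ext k B₀ B₀) :
    extφ (Λ := Λ) (Algebra.linearMap k B₀) X (epsD Λ k) = X.incl 1 := by
  have := extφ_inr (Λ := Λ) (Algebra.linearMap k B₀) X (1 : k)
  rw [Algebra.linearMap_apply, map_one] at this
  exact this

/-- constants map to constants. -/
lemma extφ₁_inl (X : Exal.Ext k B₀ B₀) (c : k) :
    extφ (Λ := Λ) (Algebra.linearMap k B₀) X (inlD Λ k c) = algebraMap k X.E c := by
  rw [extφ_apply]
  change algebraMap k X.E c + X.incl (Algebra.linearMap k B₀ 0) = _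
  rw [map_zero, map_zero, add_zero]

/-- **Injectivity of the first-order dictionary.** -/
theorem exists_equiv_of_cls_eq {X X' : Exal.Ext k B₀ B₀}
    (h : (adOfExt₁ (Λ := Λ) X).cls = (adOfExt₁ (Λ := Λ) X').cls) : Nonempty (X.Equiv X') := by
  obtain ⟨τ, h1', h2'⟩ : ∃ τ : X.E →+* X'.E,
      (∀ a : (dual Λ k : Art Λ k), τ (extφ (Λ := Λ) (Algebra.linearMap k B₀) X a) =
        extφ (Λ := Λ) (Algebra.linearMap k B₀) X' a) ∧ ∀ e : X.E, X'.proj (τ e) = X.proj e :=
    AD.exists_hom_of_map_cls_eq (𝟙 (dual Λ k)) (adOfExt₁ (Λ := Λ) X)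
      (adOfExt₁ (Λ := Λ) X') (by
        rw [CategoryTheory.Functor.map_id]
        exact h)
  have hcomm : ∀ c : k, τ (algebraMap k X.E c) = algebraMap k X'.E c := by
    intro c
    rw [← extφ₁_inl (Λ := Λ) X c, h1', extφ₁_inl]
  have hincl : ∀ b : B₀, τ (X.incl b) = X'.incl b := by
    intro b
    obtain ⟨x, rfl⟩ := X.isExtension.proj_surjective b
    have e1 : X.incl (X.proj x) = X.incl 1 * x := by
      rw [mul_incl', smul_eq_mul, mul_one]
    rw [e1, map_mul, ← extφ₁_eps (Λ := Λ) X, h1', extφ₁_eps, mul_incl', h2', smul_eq_mul, mul_one]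
  have hinj : Function.Injective τ := by
    rw [injective_iff_map_eq_zero]
    intro e he
    have e1 : X.proj e = 0 := by rw [← h2', he, map_zero]
    obtain ⟨b, rfl⟩ := (X.isExtension.exact e).1 e1
    rw [hincl] at he
    have hb : b = 0 := X'.isExtension.incl_injective (he.trans (map_zero _).symm)
    rw [hb, map_zero]
  have hsurj : Function.Surjective τ := by
    intro e'
    obtain ⟨x, hx⟩ := X.isExtension.proj_surjective (X'.proj e')
    have e1 : X'.proj (e' - τ x) = 0 := by rw [map_sub, h2', hx, sub_self]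
    obtain ⟨b, hb⟩ := (X'.isExtension.exact _).1 e1
    refine ⟨x + X.incl b, ?_⟩
    rw [map_add, hincl, hb]
    ring
  let τa : X.E →ₐ[k] X'.E := { τ with commutes' := hcomm }
  exact ⟨{ toAlgEquiv := AlgEquiv.ofBijective τa ⟨hinj, hsurj⟩
           proj_apply := h2'
           apply_incl := hincl }⟩

end Groth.Agent.H61.Hull
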