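import Mathlib
import Groth.Prelude.Def_ArtFun4

set_option linter.style.haveILetI false
set_option linter.unusedSectionVars false
set_option autoImplicit false

/-!
# Transport of hulls along isomorphisms of functors, and of deformation functors along
isomorphisms of schemes
-/

open AlgebraicGeometry CategoryTheory CategoryTheory.Limits

namespace Groth.Agent.H61.Hull

universe u v

open ArtFun ArtFun.Art

variable {Λ : Type u} {k : Type u} [CommRing Λ] [Field k] [Algebra Λ k]

section Functor

variable {F G : Art Λ k ⥤ Type v}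

/-- the family obtained by composing with a natural transformation. -/
def Family.postcomp {R : Type u} [CommRing R] [Algebra Λ R] {resR : R →ₐ[Λ] k}
    (ξ : Family R resR F) (η : F ⟶ G) : Family R resR G where
  app A φ := η.app A (ξ.app A φ)
  natural f φ := by
    rw [ξ.natural]
    exact NatTrans.naturality_apply η f _

theorem hasHull_of_bijective (η : F ⟶ G) (hη : ∀ A, Function.Bijective (η.app A))
    (h : HasHull F) : HasHull G := by
  obtain ⟨H⟩ := h
  refine ⟨⟨H.ring, Family.postcomp H.family η, ?_, ?_⟩⟩
  · intro B A μ hμ φ y hy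
    obtain ⟨y', rfl⟩ := (hη B).2 y
    have h1 : F.map μ y' = H.family.app A φ := by
      apply (hη A).1
      rw [NatTrans.naturality_apply η μ y']
      exact hy
    obtain ⟨ψ, hψ1, hψ2⟩ := H.miniversal.1 μ hμ φ y' h1
    refine ⟨ψ, hψ1, ?_⟩
    change η.app B (H.family.app B ψ) = _
    rw [hψ2]
  · exact (hη _).comp H.miniversal.2

end Functor

section Scheme

variable {X X' : Scheme.{u}} {x : X ⟶ specPt k} {x' : X' ⟶ specPt k}
  (e : X ≅ X') (hx : e.hom ≫ x' = x) {A B : Art Λ k}

include hx

/-- transport of a deformation along an isomorphism of the special fibre. -/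
@[reducible] def DefSch.transport (ξ : DefSch X' x' A) : DefSch X x A where
  total := ξ.total
  f := ξ.f
  flat := ξ.flat
  i := e.hom ≫ ξ.i
  isPullback := by
    refine IsPullback.of_iso ξ.isPullback e.symm (Iso.refl _) (Iso.refl _) (Iso.refl _) ?_ ?_ ?_ ?_
    · simp
    · rw [Iso.symm_hom, Iso.refl_hom, Category.comp_id, ← hx, Iso.inv_hom_id_assoc]
    · simp
    · simp

/-- transport respects isomorphisms. -/
def DefSch.transportIso {ξ₁ ξ₂ : DefSch X' x' A} (I : ξ₁.Iso ξ₂) :
    (DefSch.transport (Λ := Λ) e hx ξ₁).Iso (DefSch.transport (Λ := Λ) e hx ξ₂) where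
  iso := I.iso
  hom_f := I.hom_f
  i_hom := by
    change (e.hom ≫ ξ₁.i) ≫ I.iso.hom = e.hom ≫ ξ₂.i
    rw [Category.assoc, I.i_hom]

/-- transport commutes with base change. -/
noncomputable def DefSch.transportBaseChange (ξ : DefSch X' x' A) (g : A ⟶ B) :
    ((DefSch.transport (Λ := Λ) e hx ξ).baseChange g).Iso
      (DefSch.transport (Λ := Λ) e hx (ξ.baseChange g)) where
  iso := Iso.refl _
  hom_f := Category.id_comp _
  i_hom := by
    have key : ((DefSch.transport (Λ := Λ) e hx ξ).baseChange g).i = e.hom ≫ (ξ.baseChange g).i := by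
      apply pullback.hom_ext
      · rw [Category.assoc, DefSch.baseChange_i_fst]
        exact congrArg (e.hom ≫ ·) (DefSch.baseChange_i_fst ξ g).symm
      · rw [Category.assoc]
        have h1 := DefSch.baseChange_i_f ξ g
        have h2 := DefSch.baseChange_i_f (DefSch.transport (Λ := Λ) e hx ξ) g
        change (ξ.baseChange g).i ≫ pullback.snd ξ.f (specMap g) = _ at h1
        rw [h1, ← Category.assoc, hx]
        exact h2
    exact (Category.comp_id _).trans key

/-- the natural transformation of deformation functors induced by an isomorphism. -/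
noncomputable def transportNat : defFunctor (Λ := Λ) X' x' ⟶ defFunctor (Λ := Λ) X x where
  app A := ↾Quotient.map' (fun ξ => DefSch.transport (Λ := Λ) e hx ξ)
    (fun _ _ ⟨I⟩ => ⟨DefSch.transportIso e hx I⟩)
  naturality A B g := by
    apply ConcreteCategory.hom_ext
    intro q
    induction q using Quotient.inductionOn with
    | h ξ => exact Quotient.sound ⟨(DefSch.transportBaseChange e hx ξ g).symm⟩

theorem transportNat_bijective (A : Art Λ k) :
    Function.Bijective ((transportNat (Λ := Λ) e hx).app A) := by
  constructor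
  · intro q₁ q₂
    induction q₁ using Quotient.inductionOn with
    | h ξ₁ =>
      induction q₂ using Quotient.inductionOn with
      | h ξ₂ =>
        intro h
        have h' : Nonempty ((DefSch.transport (Λ := Λ) e hx ξ₁).Iso
            (DefSch.transport (Λ := Λ) e hx ξ₂)) := Quotient.exact h
        obtain ⟨I⟩ := h'
        refine Quotient.sound ⟨⟨I.iso, I.hom_f, ?_⟩⟩
        have h1 : (e.hom ≫ ξ₁.i) ≫ I.iso.hom = e.hom ≫ ξ₂.i := I.i_hom
        rw [Category.assoc] at h1
        exact (cancel_epi e.hom).mp h1
  · intro q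
    induction q using Quotient.inductionOn with
    | h ξ =>
      have hx' : e.symm.hom ≫ x = x' := by
        rw [Iso.symm_hom, Iso.inv_comp_eq, hx]
      refine ⟨(DefSch.transport (Λ := Λ) e.symm hx' ξ).cl, ?_⟩
      refine Quotient.sound ⟨⟨Iso.refl _, Category.id_comp _, ?_⟩⟩
      change (e.hom ≫ e.symm.hom ≫ ξ.i) ≫ 𝟙 _ = ξ.i
      rw [Category.comp_id, Iso.symm_hom, Iso.hom_inv_id_assoc]

/-- hulls transport along isomorphisms of the special fibre. -/
theorem hasHull_defFunctor_of_iso (h : HasHull (defFunctor (Λ := Λ) X' x')) :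
    HasHull (defFunctor (Λ := Λ) X x) :=
  hasHull_of_bijective (transportNat (Λ := Λ) e hx) (transportNat_bijective e hx) h

end Scheme

end Groth.Agent.H61.Hull
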