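import Groth.Agent.H61.Hull.SpecHull
import Groth.Agent.H61.Hull.Transport
import Groth.Agent.H61.Hull.AffineHyp

set_option linter.style.haveILetI false
set_option linter.unusedSectionVars false
set_option autoImplicit false

/-!
# The deformation functor of an affine scheme of finite type with finitely many non-smooth points
has a hull
-/

open AlgebraicGeometry CategoryTheory CategoryTheory.Limits

namespace Groth.Agent.H61.Hull

universe u

open ArtFun ArtFun.Art Groth.Agent.H61.DefAlg

variable {Λ : Type u} {k : Type u} [CommRing Λ] [Field k] [Algebra Λ k]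
  [IsLocalRing Λ] [IsNoetherianRing Λ] [IsAdicComplete (IsLocalRing.maximalIdeal Λ) Λ]

theorem hasHull_affine (hk : Function.Surjective (algebraMap Λ k))
    (X : Scheme.{u}) [IsAffine X] (x : X ⟶ Spec (CommRingCat.of k)) [LocallyOfFiniteType x]
    (U : X.Opens) (hU : Smooth (U.ι ≫ x)) (hfin : ((U : Set X)ᶜ).Finite) :
    HasHull (defFunctor (Λ := Λ) X x) := by
  letI := algΓ X x
  haveI := finiteType_Γ X x
  have h1 : HasHull (defFunctor (Λ := Λ) (XB k Γ(X, ⊤)) (xB k Γ(X, ⊤))) :=
    hasHull_spec hk (badSet X U) (badSet_finite X U hfin)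
      (fun 𝔭 h𝔭 => exists_smooth_away X x U hU 𝔭 h𝔭)
  exact hasHull_defFunctor_of_iso X.isoSpec (isoSpec_hom_xB X x) h1

end Groth.Agent.H61.Hull
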