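import Mathlib
import Groth.Agent.H27.Tor1

set_option linter.style.haveILetI false
set_option linter.unusedSectionVars false
set_option autoImplicit false

/-!
# Flatness over a local ring with square-zero maximal ideal
-/

namespace Groth.Agent.H61.Hull

universe u

open TensorProduct Groth.Agent.H27.Tor1

variable {A : Type u} [CommRing A] (m : Ideal A) {ι' : Type} [Fintype ι'] (ε : ι' → A)
  {E : Type u} [AddCommGroup E] [Module A E]

lemma exists_sum_tmul (hε : m = Ideal.span (Set.range ε)) (hmem : ∀ i, ε i ∈ m) (x : ↥m ⊗[A] E) :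
    ∃ e : ι' → E, x = ∑ i, (⟨ε i, hmem i⟩ : ↥m) ⊗ₜ[A] e i := by
  induction x using TensorProduct.induction_on with
  | zero => exact ⟨0, by simp⟩
  | tmul a e =>
    have ha : (a : A) ∈ Ideal.span (Set.range ε) := by rw [← hε]; exact a.2
    rw [Ideal.mem_span_range_iff_exists_fun] at ha
    obtain ⟨c, hc⟩ := ha
    refine ⟨fun i => c i • e, ?_⟩
    have h1 : a = ∑ i, c i • (⟨ε i, hmem i⟩ : ↥m) := by
      apply Subtype.ext
      rw [AddSubmonoidClass.coe_finset_sum, ← hc]
      rfl
    rw [h1, TensorProduct.sum_tmul]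
    refine Finset.sum_congr rfl fun i _ => ?_
    rw [TensorProduct.smul_tmul]
  | add x y hx hy =>
    obtain ⟨e₁, rfl⟩ := hx
    obtain ⟨e₂, rfl⟩ := hy
    refine ⟨e₁ + e₂, ?_⟩
    rw [← Finset.sum_add_distrib]
    refine Finset.sum_congr rfl fun i _ => ?_
    rw [Pi.add_apply, TensorProduct.tmul_add]

lemma tmul_eq_zero_of_mem (hm2 : m * m = ⊥) (a : ↥m) (e : E)
    (he : e ∈ m • (⊤ : Submodule A E)) : (a ⊗ₜ[A] e : ↥m ⊗[A] E) = 0 := by
  refine Submodule.smul_induction_on he ?_ ?_
  · intro b hb e' _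
    rw [← TensorProduct.smul_tmul]
    have : b • a = 0 := by
      apply Subtype.ext
      rw [Submodule.coe_smul, smul_eq_mul, Submodule.coe_zero]
      have h1 : b * (a : A) ∈ m * m := Ideal.mul_mem_mul hb a.2
      rwa [hm2, Ideal.mem_bot] at h1
    rw [this, TensorProduct.zero_tmul]
  · intro x y hx hy
    rw [TensorProduct.tmul_add, hx, hy, add_zero]

/-- **Flatness over a ring with square-zero maximal ideal.** -/
theorem flat_of_sqZero [m.IsMaximal] (hm2 : m * m = ⊥)
    (hε : m = Ideal.span (Set.range ε))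
    (h : ∀ e : ι' → E, ∑ i, ε i • e i = 0 → ∀ i, e i ∈ m • (⊤ : Submodule A E)) :
    Module.Flat A E := by
  have hmem : ∀ i, ε i ∈ m := by
    intro i
    rw [hε]
    exact Ideal.subset_span ⟨i, rfl⟩
  have hnil : IsNilpotent m := ⟨2, by rw [pow_two, hm2]; rfl⟩
  letI : Field (A ⧸ m) := Ideal.Quotient.field m
  haveI : Module.Flat (A ⧸ m) ((A ⧸ m) ⊗[A] E) := inferInstance
  refine flat_of_isNilpotent_of_tor1Zero m hnil ((tor1Zero_quotient_iff m).mpr ?_)
  rw [injective_iff_map_eq_zero]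
  intro x hx
  obtain ⟨e, rfl⟩ := exists_sum_tmul m ε hε hmem x
  have h1 : ∑ i, ε i • e i = 0 := by
    have h2 := congrArg (TensorProduct.lid A E) hx
    rw [map_zero, map_sum, map_sum] at h2
    rw [← h2]
    refine Finset.sum_congr rfl fun i _ => ?_
    rw [LinearMap.rTensor_tmul, TensorProduct.lid_tmul]
    rfl
  have h3 := h e h1
  refine Finset.sum_eq_zero fun i _ => ?_
  exact tmul_eq_zero_of_mem m hm2 _ _ (h3 i)

end Groth.Agent.H61.Hull
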