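import Groth.Agent.H61.Hull.AD
import Groth.Agent.H61.Hull.SqZeroFlat
import Groth.Agent.H61.TszeObj
import Groth.Agent.H29.Exal

set_option linter.style.haveILetI false
set_option linter.unusedSectionVars false
set_option autoImplicit false

/-!
# The deformation over `k[V]` attached to an extension of `B₀` by `B₀ ⊗ V`
-/

open AlgebraicGeometry CategoryTheory CategoryTheory.Limits

namespace Groth.Agent.H61.Hull

universe u

open ArtFun ArtFun.Art Groth.Agent.H61.DefAlg Groth.Agent.H61.Obs Groth.Agent.H63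
  Groth.Agent.H29.ExalL

variable {Λ : Type u} {k : Type u} [CommRing Λ] [Field k] [Algebra Λ k]
  {B₀ : Type u} [CommRing B₀] [Algebra k B₀]
variable {V : Type u} [AddCommGroup V] [Module k V] [Module kᵐᵒᵖ V] [SMulCommClass k kᵐᵒᵖ V]
  [IsCentralScalar k V] [Module Λ V] [IsScalarTower Λ k V] [IsScalarTower Λ kᵐᵒᵖ V]
  [Module.Finite k V]
variable {M : Type u} [AddCommGroup M] [Module B₀ M] [Module k M] [IsScalarTower k B₀ M]
variable (j : V →ₗ[k] M) (X : Exal.Ext k B₀ M)

/-- the structure map `k[V] → E` of an extension of `B₀` by `M`, given `j : V → M`, on the plain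
square-zero extension. -/
noncomputable def extφ₀ : TrivSqZeroExt k V →+* X.E where
  toFun a := algebraMap k X.E a.fst + X.incl (j a.snd)
  map_one' := by
    rw [TrivSqZeroExt.fst_one, TrivSqZeroExt.snd_one, map_one, map_zero, map_zero, add_zero]
  map_mul' a b := by
    rw [TrivSqZeroExt.fst_mul, TrivSqZeroExt.snd_mul, op_smul_eq_smul, map_mul]
    have e1 : X.incl (j (a.fst • b.snd + b.fst • a.snd)) =
        algebraMap k X.E a.fst * X.incl (j b.snd) + algebraMap k X.E b.fst * X.incl (j a.snd) := by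
      rw [j.map_add, j.map_smul, j.map_smul, X.incl.map_add, incl_smul, incl_smul, Algebra.smul_def,
        Algebra.smul_def]
    have h0 := incl_mul_incl X (j a.snd) (j b.snd)
    rw [e1]
    linear_combination -h0
  map_zero' := by
    rw [TrivSqZeroExt.fst_zero, TrivSqZeroExt.snd_zero, map_zero, map_zero, map_zero, add_zero]
  map_add' a b := by
    rw [TrivSqZeroExt.fst_add, TrivSqZeroExt.snd_add, map_add, map_add, map_add]
    abel

/-- the structure map `k[V] → E` of an extension of `B₀` by `M`, given `j : V → M`. -/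
noncomputable def extφ : (tszeArt Λ k V) →+* X.E := extφ₀ j X

lemma extφ_apply (a : tszeArt Λ k V) :
    extφ (Λ := Λ) j X a = algebraMap k X.E (TrivSqZeroExt.fst (a : TrivSqZeroExt k V)) +
      X.incl (j (TrivSqZeroExt.snd (a : TrivSqZeroExt k V))) := rfl

lemma extφ_inr (v : V) :
    extφ (Λ := Λ) j X ((TrivSqZeroExt.inr v : TrivSqZeroExt k V) : tszeArt Λ k V) = X.incl (j v) := by
  rw [extφ_apply, TrivSqZeroExt.fst_inr, TrivSqZeroExt.snd_inr, map_zero, zero_add]

lemma proj_extφ (a : tszeArt Λ k V) :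
    X.proj (extφ (Λ := Λ) j X a) = algebraMap k B₀ ((tszeArt Λ k V).res a) := by
  rw [extφ_apply, map_add, proj_incl, add_zero, AlgHom.commutes]
  rfl

end Groth.Agent.H61.Hull

namespace Groth.Agent.H61.Hull

universe u

open ArtFun ArtFun.Art Groth.Agent.H61.DefAlg Groth.Agent.H61.Obs Groth.Agent.H63
  Groth.Agent.H29.ExalL

variable {Λ : Type u} {k : Type u} [CommRing Λ] [Field k] [Algebra Λ k]
  {B₀ : Type u} [CommRing B₀] [Algebra k B₀]
variable {V : Type u} [AddCommGroup V] [Module k V] [Module kᵐᵒᵖ V] [SMulCommClass k kᵐᵒᵖ V]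
  [IsCentralScalar k V] [Module Λ V] [IsScalarTower Λ k V] [IsScalarTower Λ kᵐᵒᵖ V]
  [Module.Finite k V]
variable {M : Type u} [AddCommGroup M] [Module B₀ M] [Module k M] [IsScalarTower k B₀ M]
variable (j : V →ₗ[k] M) (X : Exal.Ext k B₀ M)
variable {ι' : Type} [Fintype ι'] (bV : Module.Basis ι' k V) (bM : Module.Basis ι' B₀ M)

omit [Module Λ V] [IsScalarTower Λ k V] [IsScalarTower Λ kᵐᵒᵖ V] [Module.Finite k V] in
lemma plain_mem_span (a : TrivSqZeroExt k V) (ha : a.fst = 0) :
    a ∈ Ideal.span (Set.range fun i : ι' => (TrivSqZeroExt.inr (bV i) : TrivSqZeroExt k V)) := by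
  classical
  have h1 : a = TrivSqZeroExt.inr a.snd :=
    TrivSqZeroExt.ext (by rw [ha, TrivSqZeroExt.fst_inr]) (by rw [TrivSqZeroExt.snd_inr])
  have h2 : a = ∑ i, (TrivSqZeroExt.inl (bV.repr a.snd i) : TrivSqZeroExt k V) *
      TrivSqZeroExt.inr (bV i) := by
    conv_lhs => rw [h1, ← bV.sum_repr a.snd]
    rw [TrivSqZeroExt.inr_sum]
    refine Finset.sum_congr rfl fun i _ => ?_
    rw [TrivSqZeroExt.inl_mul_inr]
  rw [h2]
  refine Ideal.sum_mem _ fun i _ => ?_
  exact Ideal.mul_mem_left _ _ (Ideal.subset_span ⟨i, rfl⟩)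

omit [Module Λ V] [IsScalarTower Λ k V] [IsScalarTower Λ kᵐᵒᵖ V] [Module.Finite k V] in
lemma plain_mul_eq_zero (a b : TrivSqZeroExt k V) (ha : a.fst = 0) (hb : b.fst = 0) : a * b = 0 := by
  refine TrivSqZeroExt.ext ?_ ?_
  · rw [TrivSqZeroExt.fst_mul, ha, zero_mul, TrivSqZeroExt.fst_zero]
  · rw [TrivSqZeroExt.snd_mul, ha, hb, zero_smul, MulOpposite.op_zero, zero_smul, add_zero,
      TrivSqZeroExt.snd_zero]

/-- the generators `ε_i` of the maximal ideal of `k[V]`. -/
noncomputable def tszeGen (i : ι') : tszeArt Λ k V := (TrivSqZeroExt.inr (bV i) : TrivSqZeroExt k V)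

lemma tszeGen_mem (i : ι') : tszeGen (Λ := Λ) bV i ∈ IsLocalRing.maximalIdeal (tszeArt Λ k V) := by
  rw [mem_maximalIdeal_iff]
  rfl

lemma tsze_maximalIdeal_eq_span :
    IsLocalRing.maximalIdeal (tszeArt Λ k V) = Ideal.span (Set.range (tszeGen (Λ := Λ) bV)) := by
  apply le_antisymm
  · intro a ha
    rw [mem_maximalIdeal_iff] at ha
    exact plain_mem_span bV a ha
  · rw [Ideal.span_le]
    rintro _ ⟨i, rfl⟩
    exact tszeGen_mem bV i

lemma tsze_maximalIdeal_mul :
    IsLocalRing.maximalIdeal (tszeArt Λ k V) * IsLocalRing.maximalIdeal (tszeArt Λ k V) = ⊥ := by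
  rw [eq_bot_iff, Ideal.mul_le]
  intro a ha b hb
  rw [mem_maximalIdeal_iff] at ha hb
  rw [Ideal.mem_bot]
  exact plain_mul_eq_zero a b ha hb

variable (hj : ∀ i, j (bV i) = bM i)

include hj in
lemma extφ_tszeGen (i : ι') : extφ (Λ := Λ) j X (tszeGen (Λ := Λ) bV i) = X.incl (bM i) := by
  rw [← hj]
  exact extφ_inr j X (bV i)

include hj in
/-- the kernel of the projection is `m_{k[V]} E`. -/
lemma mem_map_of_proj_eq_zero (e : X.E) (he : X.proj e = 0) :
    e ∈ (IsLocalRing.maximalIdeal (tszeArt Λ k V)).map (extφ (Λ := Λ) j X) := by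
  obtain ⟨z, rfl⟩ := (X.isExtension.exact e).1 he
  choose lift hlift using X.isExtension.proj_surjective
  have h1 : X.incl z = ∑ i, lift (bM.repr z i) * extφ (Λ := Λ) j X (tszeGen (Λ := Λ) bV i) := by
    conv_lhs => rw [← bM.sum_repr z]
    rw [map_sum]
    refine Finset.sum_congr rfl fun i _ => ?_
    rw [extφ_tszeGen j X bV bM hj, X.isExtension.mul_incl, hlift]
  rw [h1]
  refine Ideal.sum_mem _ fun i _ => ?_
  exact Ideal.mul_mem_left _ _ (Ideal.mem_map_of_mem _ (tszeGen_mem bV i))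

include hj in
theorem extφ_flat : (extφ (Λ := Λ) j X).Flat := by
  letI : Algebra (tszeArt Λ k V) X.E := (extφ (Λ := Λ) j X).toAlgebra
  change Module.Flat (tszeArt Λ k V) X.E
  refine flat_of_sqZero (IsLocalRing.maximalIdeal (tszeArt Λ k V)) (tszeGen (Λ := Λ) bV)
    tsze_maximalIdeal_mul (tsze_maximalIdeal_eq_span bV) ?_
  intro e he i
  have h1 : ∀ i, tszeGen (Λ := Λ) bV i • e i = X.incl (X.proj (e i) • bM i) := by
    intro i
    rw [Algebra.smul_def]
    change extφ (Λ := Λ) j X (tszeGen (Λ := Λ) bV i) * e i = _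
    rw [extφ_tszeGen j X bV bM hj, mul_incl']
  have h2 : X.incl (∑ i, X.proj (e i) • bM i) = 0 := by
    rw [map_sum, ← he]
    exact Finset.sum_congr rfl fun i _ => (h1 i).symm
  have h3 : ∑ i, X.proj (e i) • bM i = 0 :=
    X.isExtension.incl_injective (h2.trans (map_zero _).symm)
  have h4 := Fintype.linearIndependent_iff.mp bM.linearIndependent (fun i => X.proj (e i)) h3 i
  have h5 := mem_map_of_proj_eq_zero (Λ := Λ) j X bV bM hj (e i) h4
  rw [Ideal.smul_top_eq_map, Submodule.restrictScalars_mem]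
  exact h5

include hj in
/-- the deformation over `k[V]` attached to an extension of `B₀` by `M ≅ B₀ ⊗ V`. -/
noncomputable def adOfExt : AD B₀ (tszeArt Λ k V) where
  E := X.E
  φ := extφ (Λ := Λ) j X
  π := (X.proj : X.E →+* B₀)
  flat := extφ_flat j X bV bM hj
  surj := X.isExtension.proj_surjective
  comp := proj_extφ j X
  ker := by
    apply le_antisymm
    · intro e he
      exact mem_map_of_proj_eq_zero j X bV bM hj e (RingHom.mem_ker.1 he)
    · rw [Ideal.map_le_iff_le_comap]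
      intro a ha
      rw [Ideal.mem_comap, RingHom.mem_ker]
      change X.proj (extφ (Λ := Λ) j X a) = 0
      rw [proj_extφ, (mem_maximalIdeal_iff _ a).mp ha, map_zero]

end Groth.Agent.H61.Hull
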