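import Groth.Agent.H56.ExalT1

set_option linter.style.haveILetI false
set_option linter.unusedSectionVars false
set_option autoImplicit false

/-!
# The explicit extension attached to a map `I/I² → M`, and its functoriality in `M`
-/

namespace Groth.Agent.H61.Hull

universe u

open Exal Groth.Agent.H56.ExalPres Groth.Agent.H56.ExalT1 Groth.Agent.H29.ExalL

attribute [local instance] Exal.opModule Exal.isCentralScalar_opModule

variable {k B₀ : Type u} [Field k] [CommRing B₀] [Algebra k B₀] {ι σ : Type u}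
  (P : Algebra.Presentation k B₀ ι σ)
  {M : Type u} [AddCommGroup M] [Module B₀ M] [Module P.toExtension.Ring M]
  [IsScalarTower P.toExtension.Ring B₀ M]
  {M' : Type u} [AddCommGroup M'] [Module B₀ M'] [Module P.toExtension.Ring M']
  [IsScalarTower P.toExtension.Ring B₀ M']

/-- the ring map `R ⊕ M → R ⊕ M'` induced by `l`. -/
noncomputable def tmap (l : M →ₗ[B₀] M') :
    TrivSqZeroExt P.toExtension.Ring M →+* TrivSqZeroExt P.toExtension.Ring M' :=
  (TrivSqZeroExt.map (l.restrictScalars P.toExtension.Ring)).toRingHom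

lemma tmap_inl (l : M →ₗ[B₀] M') (r : P.toExtension.Ring) :
    tmap P l (TrivSqZeroExt.inl r) = TrivSqZeroExt.inl r :=
  TrivSqZeroExt.map_inl _ r

lemma tmap_inr (l : M →ₗ[B₀] M') (m : M) :
    tmap P l (TrivSqZeroExt.inr m) = TrivSqZeroExt.inr (l m) :=
  TrivSqZeroExt.map_inr _ m

lemma fst_tmap (l : M →ₗ[B₀] M') (t : TrivSqZeroExt P.toExtension.Ring M) :
    (tmap P l t).fst = t.fst :=
  TrivSqZeroExt.fst_map _ t

attribute [local instance] Groth.Agent.H56.ExalPres.algT

/-- the `R`-linear map on the kernel induced by a `B₀`-linear map on the conormal module. -/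
noncomputable def δof (z : P.toExtension.Cotangent →ₗ[B₀] M) :
    RingHom.ker (algebraMap P.toExtension.Ring B₀) →ₗ[P.toExtension.Ring] M where
  toFun x := z (Algebra.Extension.Cotangent.mk x)
  map_add' x y := by rw [map_add, map_add]
  map_smul' r x := by
    rw [map_smul, ← algebraMap_smul B₀ r (Algebra.Extension.Cotangent.mk x), map_smul,
      RingHom.id_apply, algebraMap_smul]

lemma δof_apply (z : P.toExtension.Cotangent →ₗ[B₀] M)
    (x : RingHom.ker (algebraMap P.toExtension.Ring B₀)) :
    δof P z x = z (Algebra.Extension.Cotangent.mk x) := rfl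

/-- the explicit extension of `B₀` by `M` attached to `z : I/I² → M`. -/
noncomputable def pushExt (z : P.toExtension.Cotangent →ₗ[B₀] M) : Exal.Ext k B₀ M :=
  ⟨TrivSqZeroExt P.toExtension.Ring M ⧸ kerIdeal (δof P z), pushProj k (δof P z),
    pushIncl (δof P z), isExtension_push (δof P z) P.toExtension.algebraMap_surjective⟩

lemma pushExt_incl_δ (z : P.toExtension.Cotangent →ₗ[B₀] M)
    (x : RingHom.ker (algebraMap P.toExtension.Ring B₀)) :
    (pushExt P z).incl (δof P z x) =
      Ideal.Quotient.mk (kerIdeal (δof P z)) (TrivSqZeroExt.inl (x : P.toExtension.Ring)) := by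
  change pushIncl (δof P z) (δof P z x) = _
  rw [pushIncl_apply, eq_comm, mk_eq_mk_iff]
  exact ⟨x, rfl⟩

/-- the class of the explicit extension. -/
theorem classMap_pushExt (z : P.toExtension.Cotangent →ₗ[B₀] M) :
    classMap P M (pushExt P z) = CotT.homToT1 P M z := by
  let t : P.toExtension.Ring →ₐ[k] (pushExt P z).E :=
    (Ideal.Quotient.mkₐ k (kerIdeal (δof P z))).comp (inlHom k M)
  have ht : ∀ r, (pushExt P z).proj (t r) = algebraMap P.toExtension.Ring B₀ r := by
    intro r
    change pushProj k (δof P z) (Ideal.Quotient.mk (kerIdeal (δof P z)) (TrivSqZeroExt.inl r)) = _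
    rw [pushProj_mk, TrivSqZeroExt.fst_inl]
  rw [classMap_eq P M (pushExt P z) t ht]
  congr 1
  exact phi_eq_of_incl P (pushExt P z) t ht z (fun x => pushExt_incl_δ P z x)

section Functoriality

variable (z : P.toExtension.Cotangent →ₗ[B₀] M) (l : M →ₗ[B₀] M')

lemma δof_comp (x : RingHom.ker (algebraMap P.toExtension.Ring B₀)) :
    δof P (l ∘ₗ z) x = l (δof P z x) := rfl

/-- the map of explicit extensions induced by `l : M → M'`. -/
noncomputable def pushMap : (pushExt P z).E →+* (pushExt P (l ∘ₗ z)).E :=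
  Ideal.quotientMap (kerIdeal (δof P (l ∘ₗ z)))
    (tmap P l)
    (by
      rintro _ ⟨x, rfl⟩
      rw [Ideal.mem_comap]
      refine ⟨x, ?_⟩
      change gen (δof P (l ∘ₗ z)) x = tmap P l (gen (δof P z) x)
      unfold gen
      rw [map_sub, tmap_inl, tmap_inr]
      rfl)

lemma pushMap_mk (t : TrivSqZeroExt P.toExtension.Ring M) :
    pushMap P z l (Ideal.Quotient.mk (kerIdeal (δof P z)) t) =
      Ideal.Quotient.mk (kerIdeal (δof P (l ∘ₗ z))) (tmap P l t) := rfl

lemma pushMap_algebraMap (c : k) :
    pushMap P z l (algebraMap k (pushExt P z).E c) = algebraMap k (pushExt P (l ∘ₗ z)).E c := by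
  change pushMap P z l (Ideal.Quotient.mk (kerIdeal (δof P z))
    (TrivSqZeroExt.inl (algebraMap k P.toExtension.Ring c))) =
    Ideal.Quotient.mk (kerIdeal (δof P (l ∘ₗ z)))
      (TrivSqZeroExt.inl (algebraMap k P.toExtension.Ring c))
  rw [pushMap_mk, tmap_inl]

lemma pushMap_incl (m : M) :
    pushMap P z l ((pushExt P z).incl m) = (pushExt P (l ∘ₗ z)).incl (l m) := by
  change pushMap P z l (pushIncl (δof P z) m) = pushIncl (δof P (l ∘ₗ z)) (l m)
  rw [pushIncl_apply, pushIncl_apply, pushMap_mk, tmap_inr]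

lemma proj_pushMap (e : (pushExt P z).E) :
    (pushExt P (l ∘ₗ z)).proj (pushMap P z l e) = (pushExt P z).proj e := by
  obtain ⟨t, rfl⟩ := Ideal.Quotient.mk_surjective e
  change pushProj k (δof P (l ∘ₗ z)) (pushMap P z l (Ideal.Quotient.mk _ t)) =
    pushProj k (δof P z) (Ideal.Quotient.mk _ t)
  rw [pushMap_mk, pushProj_mk, pushProj_mk, fst_tmap]

end Functoriality

end Groth.Agent.H61.Hull
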