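import Mathlib
import Groth.Agent.H61.PSPresentCRing
import Groth.Agent.H61.PSDim

set_option linter.style.haveILetI false
set_option linter.unusedSectionVars false
set_option autoImplicit false

/-!
# A complete regular local `k`-algebra with residue field `k` is a power series ring
-/

namespace Groth.Agent.H61.Hull

universe u

open ArtFun ArtFun.Art Groth.Agent.H61 IsLocalRing

/-- a surjection of Noetherian local rings with kernel in `m²` does not decrease the embedding
dimension. -/
theorem spanFinrank_maximalIdeal_le_of_surjective {S R : Type*} [CommRing S] [CommRing R]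
    [IsLocalRing S] [IsLocalRing R] [IsNoetherianRing S] [IsNoetherianRing R] (f : S →+* R)
    (hf : Function.Surjective f) (hk : RingHom.ker f ≤ maximalIdeal S ^ 2) :
    (maximalIdeal S).spanFinrank ≤ (maximalIdeal R).spanFinrank := by
  classical
  haveI : IsLocalHom f := IsLocalHom.of_surjective f hf
  have hfgR : Submodule.FG (maximalIdeal R : Submodule R R) := IsNoetherian.noetherian _
  have hfgS : Submodule.FG (maximalIdeal S : Submodule S S) := IsNoetherian.noetherian _
  obtain ⟨s, hscard, hsspan⟩ := hfgR.exists_span_finset_card_eq_spanFinrank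
  let t : R → S := Function.surjInv hf
  have ht : ∀ y, f (t y) = y := Function.surjInv_eq hf
  let T : Finset S := s.image t
  have hTm : ∀ x ∈ T, x ∈ maximalIdeal S := by
    intro x hx
    obtain ⟨y, hy, rfl⟩ := Finset.mem_image.mp hx
    rw [← maximalIdeal_comap f, Ideal.mem_comap, ht]
    rw [← hsspan]
    exact Submodule.subset_span hy
  have hmap : Ideal.map f (Ideal.span (T : Set S)) = maximalIdeal R := by
    rw [Ideal.map_span, ← hsspan]
    congr 1
    ext y
    simp only [T, Finset.coe_image, Set.mem_image, Finset.mem_coe]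
    constructor
    · rintro ⟨_, ⟨y', hy', rfl⟩, rfl⟩
      rw [ht]
      exact hy'
    · intro hy
      exact ⟨t y, ⟨y, hy, rfl⟩, ht y⟩
  have hle : maximalIdeal S ≤ Ideal.span (T : Set S) := by
    apply Submodule.le_of_le_smul_of_le_jacobson_bot hfgS
      (by rw [IsLocalRing.jacobson_eq_maximalIdeal ⊥ bot_ne_top])
    intro a ha
    have h1 : f a ∈ Ideal.map f (Ideal.span (T : Set S)) := by
      rw [hmap]
      exact map_nonunit f a ha
    have h2 : a ∈ Ideal.comap f (Ideal.map f (Ideal.span (T : Set S))) := h1
    rw [Ideal.comap_map_of_surjective f hf] at h2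
    have h3 : Ideal.comap f ⊥ ≤ maximalIdeal S • maximalIdeal S := by
      intro x hx
      have hx' : x ∈ RingHom.ker f := hx
      have := hk hx'
      rw [pow_two] at this
      exact this
    exact (sup_le_sup_left h3 _) h2
  have heq : maximalIdeal S = Ideal.span (T : Set S) :=
    le_antisymm hle (Ideal.span_le.mpr hTm)
  rw [heq, ← hscard]
  refine (Submodule.spanFinrank_span_le_ncard_of_finite (Finset.finite_toSet T)).trans ?_
  rw [Set.ncard_coe_finset]
  exact Finset.card_image_le

variable {k : Type u} [Field k]

/-- **Cohen structure theorem, equicharacteristic regular case with residue field `k`.** -/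
theorem exists_equiv_ps_of_regular (R : CRing k k) (hreg : IsRegularLocalRing R.carrier) :
    ∃ n : ℕ, Nonempty (R.carrier ≃ₐ[k] MvPowerSeries (Fin n) k) := by
  obtain ⟨d, π, -, hsurj, hker⟩ := exists_ps_presentation R
  haveI : IsDomain (MvPowerSeries (Fin d) k) := NoZeroDivisors.to_isDomain _
  have h1 : (maximalIdeal (MvPowerSeries (Fin d) k)).spanFinrank ≤
      (maximalIdeal R.carrier).spanFinrank :=
    spanFinrank_maximalIdeal_le_of_surjective π.toRingHom hsurj hker
  rw [spanFinrank_maximalIdeal_ps] at h1
  have h2 : ((maximalIdeal R.carrier).spanFinrank : WithBot ℕ∞) = ringKrullDim R.carrier :=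
    hreg.spanFinrank_maximalIdeal
  have hinj : Function.Injective π := by
    rw [injective_iff_map_eq_zero]
    intro f hf
    by_contra hne
    have h3 := ringKrullDim_succ_le_of_surjective π.toRingHom hsurj
      (mem_nonZeroDivisors_of_ne_zero hne) hf
    rw [ringKrullDim_ps, ← h2] at h3
    have h4 : (((maximalIdeal R.carrier).spanFinrank + 1 : ℕ) : WithBot ℕ∞) ≤ (d : WithBot ℕ∞) := by
      push_cast
      exact h3
    have h5 : (maximalIdeal R.carrier).spanFinrank + 1 ≤ d := by exact_mod_cast h4
    omega
  exact ⟨d, ⟨(AlgEquiv.ofBijective π ⟨hinj, hsurj⟩).symm⟩⟩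

end Groth.Agent.H61.Hull
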