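import Groth.Agent.H61.LS.SmoothLocusT1

set_option linter.style.haveILetI false
set_option linter.unusedSectionVars false
set_option autoImplicit false

/-!
# `T¹(B₀/k, B₀)` is finite-dimensional when `B₀` is smooth outside finitely many points
-/

namespace Groth.Agent.H61.Hull

universe u

open CotT Groth.Agent.H61.LS

variable (k B₀ : Type u) [Field k] [CommRing B₀] [Algebra k B₀] [Algebra.FiniteType k B₀]

/-- `T¹(B₀/k, B₀)` is a finite `B₀`-module. -/
theorem finite_T1 : Module.Finite B₀ (T1 (canon k B₀) B₀) := by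
  classical
  haveI : Algebra.FinitePresentation k B₀ := Algebra.FinitePresentation.of_finiteType.1 inferInstance
  let P := Algebra.Presentation.ofFinitePresentation k B₀
  haveI : IsNoetherianRing B₀ := Algebra.FiniteType.isNoetherianRing k B₀
  haveI : Module.Finite B₀ (L1 P) := Module.Finite.of_basis (L1basis P)
  haveI : Module.Free B₀ (L1 P) := Module.Free.of_basis (L1basis P)
  haveI : Module.Finite B₀ (L1 P →ₗ[B₀] B₀) := inferInstance
  haveI : IsNoetherian B₀ (L1 P →ₗ[B₀] B₀) := isNoetherian_of_isNoetherianRing_of_finite _ _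
  haveI : Module.Finite B₀ (cocycles1 P B₀) := inferInstance
  haveI : Module.Finite B₀ (T1 P B₀) := inferInstance
  let e : PresHom (canon k B₀) P := defaultPresHom (canon k B₀) P
  exact Module.Finite.of_surjective (e.T1pull B₀) (T1pull_bijective B₀ e).2

variable {k B₀}

/-- **Finite-dimensionality of `T¹`.** -/
theorem exists_T1_span (Z : Set (PrimeSpectrum B₀)) (hZ : Z.Finite)
    (hsm : ∀ 𝔭 : PrimeSpectrum B₀, 𝔭 ∉ Z →
      ∃ t : B₀, t ∉ 𝔭.asIdeal ∧ Algebra.FormallySmooth k (Localization.Away t)) :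
    ∃ (n : ℕ) (z : Fin n → ((canon k B₀).toExtension.Cotangent →ₗ[B₀] B₀)),
      ∀ x : T1 (canon k B₀) B₀, ∃ c : Fin n → k,
        x = ∑ i, algebraMap k B₀ (c i) • homToT1 (canon k B₀) B₀ (z i) := by
  classical
  let T := T1 (canon k B₀) B₀
  haveI hTfin : Module.Finite B₀ T := finite_T1 k B₀
  let 𝔞 : Ideal B₀ := Module.annihilator B₀ T
  -- the support of `T` is contained in `Z`
  have hzero : PrimeSpectrum.zeroLocus (𝔞 : Set B₀) ⊆ Z := by
    intro 𝔭 h𝔭
    by_contra hnot
    obtain ⟨t, ht, hfs⟩ := hsm 𝔭 hnot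
    obtain ⟨n₀, hn₀⟩ := (formallySmooth_away_iff k B₀ t).mp hfs
    have h1 : t ^ n₀ ∈ 𝔞 := by
      rw [Module.mem_annihilator]
      intro x
      exact hn₀ B₀ x
    have h2 : t ^ n₀ ∈ 𝔭.asIdeal := h𝔭 h1
    exact ht (𝔭.isPrime.mem_of_pow_mem _ h2)
  -- the quotient `B₀/𝔞` is finite over `k`
  let C := B₀ ⧸ 𝔞
  haveI : IsJacobsonRing B₀ := isJacobsonRing_of_finiteType (A := k) (B := B₀)
  haveI : IsJacobsonRing C := isJacobsonRing_of_surjective ⟨Ideal.Quotient.mk 𝔞, Ideal.Quotient.mk_surjective⟩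
  haveI : Finite (PrimeSpectrum C) := by
    have hinj : Function.Injective (PrimeSpectrum.comap (Ideal.Quotient.mk 𝔞)) :=
      PrimeSpectrum.comap_injective_of_surjective _ Ideal.Quotient.mk_surjective
    have h1 : ((PrimeSpectrum.comap (Ideal.Quotient.mk 𝔞)) ⁻¹' Z).Finite :=
      hZ.preimage hinj.injOn
    have h2 : (PrimeSpectrum.comap (Ideal.Quotient.mk 𝔞)) ⁻¹' Z = Set.univ := by
      rw [Set.eq_univ_iff_forall]
      intro 𝔮
      apply hzero
      intro b hb
      change b ∈ (𝔮.asIdeal.comap (Ideal.Quotient.mk 𝔞))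
      rw [Ideal.mem_comap, Ideal.Quotient.eq_zero_iff_mem.mpr hb]
      exact Ideal.zero_mem _
    rw [h2] at h1
    exact Set.finite_univ_iff.mp h1
  haveI : JacobsonSpace (PrimeSpectrum C) := PrimeSpectrum.isJacobsonRing_iff_jacobsonSpace.mp inferInstance
  haveI : DiscreteTopology (PrimeSpectrum C) := inferInstance
  haveI : Ring.KrullDimLE 0 C :=
    (PrimeSpectrum.discreteTopology_iff_finite_and_krullDimLE_zero.mp inferInstance).2
  haveI : Algebra.FiniteType k C := Algebra.FiniteType.of_surjective (Ideal.Quotient.mkₐ k 𝔞)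
    (Ideal.Quotient.mkₐ_surjective k 𝔞)
  haveI : Module.Finite k C := (Module.finite_iff_krullDimLE_zero k C).mpr inferInstance
  -- `T` is a finite `C`-module
  haveI : IsScalarTower k B₀ T := inferInstance
  have htors : Module.IsTorsionBySet B₀ T (𝔞 : Set B₀) := by
    intro x a
    exact Module.mem_annihilator.mp a.2 x
  letI : Module C T := htors.module
  haveI : IsScalarTower B₀ C T := htors.isScalarTower
  haveI : IsScalarTower k C T := htors.isScalarTower
  haveI : Module.Finite C T := Module.Finite.of_restrictScalars_finite B₀ C T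
  haveI : Module.Finite k T := Module.Finite.trans C T
  obtain ⟨n, s, hs⟩ := Module.Finite.exists_fin (R := k) (M := T)
  obtain ⟨-, -, hsurj⟩ := Groth.Agent.S12289.result k B₀ _ _ (canon k B₀) B₀
  choose z hz using fun i => hsurj (s i)
  refine ⟨n, z, fun x => ?_⟩
  have hx : x ∈ Submodule.span k (Set.range s) := by rw [hs]; trivial
  rw [Submodule.mem_span_range_iff_exists_fun] at hx
  obtain ⟨c, hc⟩ := hx
  refine ⟨c, ?_⟩
  rw [← hc]
  refine Finset.sum_congr rfl fun i _ => ?_
  rw [hz i]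
  exact (algebraMap_smul B₀ (c i) (s i)).symm

end Groth.Agent.H61.Hull
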