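import Groth.Agent.H61.Hull.ToExt
import Groth.Agent.H61.Hull.PushExt

set_option linter.style.haveILetI false
set_option linter.unusedSectionVars false
set_option autoImplicit false

/-!
# The tangent space of the deformation functor of `Spec B₀` is finite-dimensional when
`T¹(B₀/k, B₀)` is.
-/

open AlgebraicGeometry CategoryTheory CategoryTheory.Limits

namespace Groth.Agent.H61.Hull

universe u

open ArtFun ArtFun.Art Groth.Agent.H61.DefAlg Groth.Agent.H61.Obs Groth.Agent.H63
  Groth.Agent.H29.ExalL Groth.Agent.H56.ExalT1 Groth.Agent.H61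

variable {Λ : Type u} {k : Type u} [CommRing Λ] [Field k] [Algebra Λ k]
  {B₀ : Type u} [CommRing B₀] [Algebra k B₀]

section General

variable {V : Type u} [AddCommGroup V] [Module k V] [Module kᵐᵒᵖ V] [SMulCommClass k kᵐᵒᵖ V]
  [IsCentralScalar k V] [Module Λ V] [IsScalarTower Λ k V] [IsScalarTower Λ kᵐᵒᵖ V]
  [Module.Finite k V]
variable {M : Type u} [AddCommGroup M] [Module B₀ M] [Module k M] [IsScalarTower k B₀ M]
variable (j : V →ₗ[k] M)
variable {ι' : Type} [Fintype ι'] (bV : Module.Basis ι' k V) (bM : Module.Basis ι' B₀ M)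
  (hj : ∀ i, j (bV i) = bM i)

/-- equivalent extensions give the same class. -/
theorem cls_adOfExt_eq_of_equiv {X X' : Exal.Ext k B₀ M} (e : X.Equiv X') :
    (adOfExt (Λ := Λ) j X bV bM hj).cls = (adOfExt (Λ := Λ) j X' bV bM hj).cls := by
  have := AD.map_cls_eq_of_hom (𝟙 (tszeArt Λ k V)) (adOfExt (Λ := Λ) j X bV bM hj)
    (adOfExt (Λ := Λ) j X' bV bM hj) (e.toAlgEquiv : X.E →+* X'.E) ?_ ?_
  · rw [← this, CategoryTheory.Functor.map_id]
    rfl
  · intro a
    change e.toAlgEquiv (extφ (Λ := Λ) j X a) = extφ (Λ := Λ) j X' a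
    rw [extφ_apply, extφ_apply, map_add, AlgEquiv.commutes, e.apply_incl]
  · intro x
    exact e.proj_apply x

variable {V' : Type u} [AddCommGroup V'] [Module k V'] [Module kᵐᵒᵖ V'] [SMulCommClass k kᵐᵒᵖ V']
  [IsCentralScalar k V'] [Module Λ V'] [IsScalarTower Λ k V'] [IsScalarTower Λ kᵐᵒᵖ V']
  [Module.Finite k V']
variable {M' : Type u} [AddCommGroup M'] [Module B₀ M'] [Module k M'] [IsScalarTower k B₀ M']
variable (j' : V' →ₗ[k] M')
variable {ι'' : Type} [Fintype ι''] (bV' : Module.Basis ι'' k V') (bM' : Module.Basis ι'' B₀ M')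
  (hj' : ∀ i, j' (bV' i) = bM' i)
variable {ι σ : Type u} (P : Algebra.Presentation k B₀ ι σ)
  [Module P.toExtension.Ring M] [IsScalarTower P.toExtension.Ring B₀ M]
  [Module P.toExtension.Ring M'] [IsScalarTower P.toExtension.Ring B₀ M']

/-- functoriality of the explicit families in the coefficient module. -/
theorem map_cls_pushExt (z : P.toExtension.Cotangent →ₗ[B₀] M) (l : M →ₗ[B₀] M')
    (l₀ : V →ₗ[k] V') (hl : ∀ v, l (j v) = j' (l₀ v)) :
    (defFunctor (Λ := Λ) (XB k B₀) (xB k B₀)).map (tszeHom l₀)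
        (adOfExt (Λ := Λ) j (pushExt P z) bV bM hj).cls =
      (adOfExt (Λ := Λ) j' (pushExt P (l ∘ₗ z)) bV' bM' hj').cls := by
  refine AD.map_cls_eq_of_hom (tszeHom l₀) (adOfExt (Λ := Λ) j (pushExt P z) bV bM hj)
    (adOfExt (Λ := Λ) j' (pushExt P (l ∘ₗ z)) bV' bM' hj') (pushMap P z l) ?_ ?_
  · intro a
    change pushMap P z l (extφ (Λ := Λ) j (pushExt P z) a) =
      extφ (Λ := Λ) j' (pushExt P (l ∘ₗ z)) (tszeMap l₀ a)
    rw [extφ_apply, extφ_apply, map_add, pushMap_algebraMap, pushMap_incl, hl]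
    rfl
  · intro e
    exact proj_pushMap P z l e

end General

section Main

lemma hjN (n : ℕ) (i : Fin n) :
    ((Algebra.linearMap k B₀).compLeft (Fin n)) (Pi.basisFun k (Fin n) i) =
      Pi.basisFun B₀ (Fin n) i := by
  funext i'
  rw [LinearMap.compLeft_apply, Function.comp_apply, Pi.basisFun_apply, Pi.basisFun_apply,
    Algebra.linearMap_apply, Pi.single_apply, Pi.single_apply]
  split_ifs
  · exact map_one _
  · exact map_zero _

variable {ι σ : Type u} (P : Algebra.Presentation k B₀ ι σ)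

/-- **Finite-dimensionality of the tangent space.**  If `T¹(B₀/k, B₀)` is spanned over `k` by
finitely many classes, the tangent space of the deformation functor of `Spec B₀` is
finite-dimensional. -/
theorem hfin_of_T1_span [T : TangentStr (defFunctor (Λ := Λ) (XB k B₀) (xB k B₀))]
    (n : ℕ) (z : Fin n → (P.toExtension.Cotangent →ₗ[B₀] B₀))
    (hz : ∀ x : CotT.T1 P B₀, ∃ c : Fin n → k,
      x = ∑ i, algebraMap k B₀ (c i) • CotT.homToT1 P B₀ (z i)) :
    Hfin (defFunctor (Λ := Λ) (XB k B₀) (xB k B₀)) := by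
  classical
  let zu : P.toExtension.Cotangent →ₗ[B₀] (Fin n → B₀) := LinearMap.pi z
  let jN : (Fin n → k) →ₗ[k] (Fin n → B₀) := (Algebra.linearMap k B₀).compLeft (Fin n)
  let ξ : (defFunctor (Λ := Λ) (XB k B₀) (xB k B₀)).obj (tszeArt Λ k (Fin n → k)) :=
    (adOfExt (Λ := Λ) jN (pushExt P zu) (Pi.basisFun k (Fin n)) (Pi.basisFun B₀ (Fin n))
      (hjN n)).cls
  have hsurj : Function.Surjective (charMap ξ) := by
    intro x
    obtain ⟨D, hD⟩ := AD.exists_cls_eq (TangentSpace.val x)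
    obtain ⟨c, hc⟩ := hz (classMap P B₀ (extOfAD D))
    let zc : P.toExtension.Cotangent →ₗ[B₀] B₀ := ∑ i, algebraMap k B₀ (c i) • z i
    have h1 : classMap P B₀ (extOfAD D) = classMap P B₀ (pushExt P zc) := by
      rw [classMap_pushExt, hc, map_sum]
      refine Finset.sum_congr rfl fun i _ => ?_
      rw [map_smul]
    obtain ⟨e⟩ := classMap_injective P B₀ h1
    have h2 : (adOfExt₁ (Λ := Λ) (extOfAD D)).cls = (adOfExt₁ (Λ := Λ) (pushExt P zc)).cls :=
      cls_adOfExt_eq_of_equiv _ _ _ _ e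
    let lc : (Fin n → B₀) →ₗ[B₀] B₀ := ∑ i, algebraMap k B₀ (c i) • LinearMap.proj i
    let l₀ : (Fin n → k) →ₗ[k] k := ∑ i, c i • LinearMap.proj i
    have hcomp : lc ∘ₗ zu = zc := by
      ext y
      simp only [lc, zu, zc, LinearMap.comp_apply, LinearMap.sum_apply, LinearMap.smul_apply,
        LinearMap.proj_apply, LinearMap.pi_apply]
    have hl : ∀ v, lc (jN v) = Algebra.linearMap k B₀ (l₀ v) := by
      intro v
      simp only [lc, l₀, jN, LinearMap.sum_apply, LinearMap.smul_apply, LinearMap.proj_apply,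
        LinearMap.compLeft_apply, Function.comp_apply, Algebra.linearMap_apply, map_sum, map_mul,
        smul_eq_mul]
    have h3 := map_cls_pushExt (Λ := Λ) jN (Pi.basisFun k (Fin n)) (Pi.basisFun B₀ (Fin n)) (hjN n)
      (Algebra.linearMap k B₀) (Module.Basis.singleton Unit k) (Module.Basis.singleton Unit B₀)
      (hj₁ k B₀) P zu lc l₀ hl
    rw [hcomp] at h3
    refine ⟨l₀, ?_⟩
    rw [charMap_apply]
    change (defFunctor (Λ := Λ) (XB k B₀) (xB k B₀)).map (tszeHom l₀) ξ = x
    rw [h3]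
    change (adOfExt₁ (Λ := Λ) (pushExt P zc)).cls = x
    rw [← h2, cls_adOfExt_extOfAD, hD]
    rfl
  exact Module.Finite.of_surjective (charMap ξ) hsurj

end Main

end Groth.Agent.H61.Hull
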