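import Groth.Agent.H61.Hull.Conditions
import Groth.Agent.H61.Hull.Univ
import Groth.Agent.H61.Hull.T1Finite
import Groth.Agent.H61.HullPS
import Groth.Agent.H63.TangentStrMk
import Groth.Agent.S12724

set_option linter.style.haveILetI false
set_option linter.unusedSectionVars false
set_option autoImplicit false

/-!
# The deformation functor of `Spec B₀` has a hull when `B₀` is of finite type and smooth outside
finitely many points
-/

open AlgebraicGeometry CategoryTheory CategoryTheory.Limits

namespace Groth.Agent.H61.Hull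

universe u

open ArtFun ArtFun.Art Groth.Agent.H61.DefAlg Groth.Agent.H63 Groth.Agent.H61

variable {Λ : Type u} {k : Type u} [CommRing Λ] [Field k] [Algebra Λ k]
  [IsLocalRing Λ] [IsNoetherianRing Λ] [IsAdicComplete (IsLocalRing.maximalIdeal Λ) Λ]
  {B₀ : Type u} [CommRing B₀] [Algebra k B₀] [Algebra.FiniteType k B₀]

theorem hasHull_spec (hk : Function.Surjective (algebraMap Λ k))
    (Z : Set (PrimeSpectrum B₀)) (hZ : Z.Finite)
    (hsm : ∀ 𝔭 : PrimeSpectrum B₀, 𝔭 ∉ Z →
      ∃ t : B₀, t ∉ 𝔭.asIdeal ∧ Algebra.FormallySmooth k (Localization.Away t)) :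
    HasHull (defFunctor (Λ := Λ) (XB k B₀) (xB k B₀)) := by
  haveI : Module.Finite Λ k := Module.Finite.of_surjective (Algebra.linearMap Λ k) hk
  letI T : TangentStr (defFunctor (Λ := Λ) (XB k B₀) (xB k B₀)) := TStr.tangentStr h0 heps
  obtain ⟨n, z, hz⟩ := exists_T1_span Z hZ hsm
  have h3 : Hfin (defFunctor (Λ := Λ) (XB k B₀) (xB k B₀)) :=
    hfin_of_T1_span (CotT.canon k B₀) n z hz
  exact hasHull_of_surjective hk _ h0 ((Groth.Agent.S12724.result _).2 hbar) heps h3

end Groth.Agent.H61.Hull
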