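import Groth.Agent.H61.Hull.FirstOrderInj
import Groth.Agent.H61.Hull.Univ
import Groth.Agent.H61.Hull.EmbDim
import Groth.Agent.H61.Hull.Conditions
import Groth.Agent.S12289

set_option linter.style.haveILetI false
set_option linter.unusedSectionVars false
set_option autoImplicit false

/-!
# The embedding dimension of a hull of `Def_{Spec B₀}` is `dim_k T¹(B₀/k, B₀)`
-/

open AlgebraicGeometry CategoryTheory CategoryTheory.Limits

namespace Groth.Agent.H61.Hull

universe u

open ArtFun ArtFun.Art Groth.Agent.H61.DefAlg Groth.Agent.H61.Obs Groth.Agent.H63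
  Groth.Agent.H29.ExalL Groth.Agent.H56.ExalT1 Groth.Agent.H61

variable {k : Type u} [Field k] {B₀ : Type u} [CommRing B₀] [Algebra k B₀]
variable {ι σ : Type u} (P : Algebra.Presentation k B₀ ι σ)

section Key

variable (n : ℕ) (z : Fin n → (P.toExtension.Cotangent →ₗ[B₀] B₀))

/-- the combination `∑ cᵢ zᵢ`. -/
noncomputable def zc (c : Fin n → k) : P.toExtension.Cotangent →ₗ[B₀] B₀ :=
  ∑ i, algebraMap k B₀ (c i) • z i

/-- the functional `∑ cᵢ prᵢ`. -/
noncomputable def lfun (c : Fin n → k) : (Fin n → k) →ₗ[k] k := ∑ i, c i • LinearMap.proj i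

lemma lfun_surj (l : (Fin n → k) →ₗ[k] k) : l = lfun n (fun i => l (Pi.single i 1)) := by
  classical
  apply LinearMap.pi_ext'
  intro i
  apply LinearMap.ext_ring
  simp only [lfun, LinearMap.comp_apply, LinearMap.single_apply, LinearMap.sum_apply,
    LinearMap.smul_apply, LinearMap.proj_apply, smul_eq_mul, Pi.single_apply, mul_ite, mul_one,
    mul_zero, Finset.sum_ite_eq', Finset.mem_univ, if_true]

/-- the universal first-order family. -/
noncomputable def univFam :
    (defFunctor (Λ := k) (XB k B₀) (xB k B₀)).obj (tszeArt k k (Fin n → k)) :=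
  (adOfExt (Λ := k) ((Algebra.linearMap k B₀).compLeft (Fin n)) (pushExt P (LinearMap.pi z))
    (Pi.basisFun k (Fin n)) (Pi.basisFun B₀ (Fin n)) (hjN n)).cls

theorem map_univFam (c : Fin n → k) :
    (defFunctor (Λ := k) (XB k B₀) (xB k B₀)).map (tszeToDual (lfun n c)) (univFam P n z) =
      (adOfExt₁ (Λ := k) (pushExt P (zc P n z c))).cls := by
  classical
  let zu : P.toExtension.Cotangent →ₗ[B₀] (Fin n → B₀) := LinearMap.pi z
  let jN : (Fin n → k) →ₗ[k] (Fin n → B₀) := (Algebra.linearMap k B₀).compLeft (Fin n)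
  let lc : (Fin n → B₀) →ₗ[B₀] B₀ := ∑ i, algebraMap k B₀ (c i) • LinearMap.proj i
  have hcomp : lc ∘ₗ zu = zc P n z c := by
    ext y
    simp only [lc, zu, zc, LinearMap.comp_apply, LinearMap.sum_apply, LinearMap.smul_apply,
      LinearMap.proj_apply, LinearMap.pi_apply]
  have hl : ∀ v, lc (jN v) = Algebra.linearMap k B₀ (lfun n c v) := by
    intro v
    simp only [lc, lfun, jN, LinearMap.sum_apply, LinearMap.smul_apply, LinearMap.proj_apply,
      LinearMap.compLeft_apply, Function.comp_apply, Algebra.linearMap_apply, map_sum, map_mul,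
      smul_eq_mul]
  have h3 := map_cls_pushExt (Λ := k) jN (Pi.basisFun k (Fin n)) (Pi.basisFun B₀ (Fin n)) (hjN n)
    (Algebra.linearMap k B₀) (Module.Basis.singleton Unit k) (Module.Basis.singleton Unit B₀)
    (hj₁ k B₀) P zu lc (lfun n c) hl
  rw [hcomp] at h3
  exact h3

lemma classMap_pushExt_zc (c : Fin n → k) :
    classMap P B₀ (pushExt P (zc P n z c)) = ∑ i, c i • CotT.homToT1 P B₀ (z i) := by
  rw [classMap_pushExt, zc, map_sum]
  refine Finset.sum_congr rfl fun i _ => ?_
  rw [map_smul]
  exact algebraMap_smul B₀ (c i) _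

end Key

variable [Module.Finite k (CotT.T1 P B₀)]

/-- **A universal first-order family.** -/
theorem exists_univ_firstOrder :
    ∃ η : (defFunctor (Λ := k) (XB k B₀) (xB k B₀)).obj
        (tszeArt k k (Fin (Module.finrank k (CotT.T1 P B₀)) → k)),
      Function.Bijective (fun l : (Fin (Module.finrank k (CotT.T1 P B₀)) → k) →ₗ[k] k =>
        (defFunctor (Λ := k) (XB k B₀) (xB k B₀)).map (tszeToDual l) η) := by
  classical
  set n := Module.finrank k (CotT.T1 P B₀) with hn
  let b : Module.Basis (Fin n) k (CotT.T1 P B₀) := Module.finBasis k (CotT.T1 P B₀)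
  obtain ⟨-, -, hsurj⟩ := Groth.Agent.S12289.result k B₀ ι σ P B₀
  choose z hz using fun i => hsurj (b i)
  refine ⟨univFam P n z, ?_, ?_⟩
  · -- injectivity
    intro l l' hll
    change (defFunctor (Λ := k) (XB k B₀) (xB k B₀)).map (tszeToDual l) (univFam P n z) =
      (defFunctor (Λ := k) (XB k B₀) (xB k B₀)).map (tszeToDual l') (univFam P n z) at hll
    rw [lfun_surj n l, lfun_surj n l', map_univFam, map_univFam] at hll
    obtain ⟨e⟩ := exists_equiv_of_cls_eq hll
    have h1 := classMap_congr P B₀ e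
    rw [classMap_pushExt_zc, classMap_pushExt_zc] at h1
    simp only [hz] at h1
    have h3 : ∀ i, l (Pi.single i 1) = l' (Pi.single i 1) := by
      intro i
      have e1 := b.repr_sum_self (fun i => l (Pi.single i 1))
      have e2 := b.repr_sum_self (fun i => l' (Pi.single i 1))
      have e3 := congrArg (fun f => (b.repr f : Fin n → k)) h1
      exact congrFun (e1.symm.trans (e3.trans e2)) i
    rw [lfun_surj n l, lfun_surj n l']
    congr 1
    funext i
    exact h3 i
  · -- surjectivity
    intro x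
    obtain ⟨D, hD⟩ := AD.exists_cls_eq x
    let c : Fin n → k := fun i => b.repr (classMap P B₀ (extOfAD D)) i
    have h1 : classMap P B₀ (extOfAD D) = classMap P B₀ (pushExt P (zc P n z c)) := by
      rw [classMap_pushExt_zc]
      simp only [hz]
      exact (b.sum_repr _).symm
    obtain ⟨e⟩ := classMap_injective P B₀ h1
    have h2 : (adOfExt₁ (Λ := k) (extOfAD D)).cls =
        (adOfExt₁ (Λ := k) (pushExt P (zc P n z c))).cls :=
      cls_adOfExt_eq_of_equiv _ _ _ _ e
    refine ⟨lfun n c, ?_⟩
    change (defFunctor (Λ := k) (XB k B₀) (xB k B₀)).map (tszeToDual (lfun n c)) (univFam P n z) = x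
    rw [map_univFam, ← h2, cls_adOfExt_extOfAD, hD]

/-- **The embedding dimension of a hull of `Def_{Spec B₀}`.** -/
theorem spanFinrank_hull_eq (H : Hull (defFunctor (Λ := k) (XB k B₀) (xB k B₀))) :
    (IsLocalRing.maximalIdeal H.ring.carrier).spanFinrank = Module.finrank k (CotT.T1 P B₀) := by
  obtain ⟨η, hη⟩ := exists_univ_firstOrder P
  exact spanFinrank_maximalIdeal_eq h0 H.ring H.family H.miniversal _ η hη

end Groth.Agent.H61.Hull
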